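import Groth.Agent.ProjDeg.K657.LinForms
import Mathlib.AlgebraicGeometry.ProjectiveSpectrum.Scheme
import Mathlib.AlgebraicGeometry.Properties
import Mathlib.Topology.KrullDimension
import Mathlib.Topology.Sober

/-!
# Topological dimension of closed subsets of `Proj`
-/

set_option autoImplicit false

universe u v

namespace K657.TopDim

open MvPolynomial Module K657.HilbFun K657.PolyDiff K657.HilbDim K657.HilbMult K657.LinForms
open TopologicalSpace AlgebraicGeometry

section General

variable {R A : Type u} [CommRing R] [CommRing A] [Algebra R A] (𝒜 : ℕ → Submodule R A)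
  [GradedAlgebra 𝒜]

instance : QuasiSober (ProjectiveSpectrum 𝒜) := inferInstanceAs (QuasiSober (Proj 𝒜))

instance : T0Space (ProjectiveSpectrum 𝒜) := inferInstanceAs (T0Space (Proj 𝒜))

/-- The topological dimension of a closed subset of `Proj` is the supremum of the lengths of chains
of its points. -/
theorem topologicalKrullDim_eq (Z : Set (ProjectiveSpectrum 𝒜)) (hZ : IsClosed Z) :
    topologicalKrullDim Z = Order.krullDim Z := by
  have hq : QuasiSober Z := (hZ.isClosedEmbedding_subtypeVal).quasiSober
  have hle : ∀ x y : Z, x ≤ y ↔ y ∈ closure ({x} : Set Z) := by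
    intro x y
    rw [closure_subtype, Set.image_singleton]
    exact ProjectiveSpectrum.le_iff_mem_closure (𝒜 := 𝒜) x.1 y.1
  refine le_antisymm ?_ ?_
  · rw [topologicalKrullDim, ← Order.krullDim_orderDual (α := Z)]
    refine Order.krullDim_le_of_strictMono
      (fun C : IrreducibleCloseds Z => OrderDual.toDual C.isIrreducible.genericPoint) ?_
    intro C D h
    have hC : closure {C.isIrreducible.genericPoint} = (C : Set Z) :=
      C.isIrreducible.genericPoint_closure_eq.trans C.isClosed.closure_eq
    have hD : closure {D.isIrreducible.genericPoint} = (D : Set Z) :=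
      D.isIrreducible.genericPoint_closure_eq.trans D.isClosed.closure_eq
    rw [OrderDual.toDual_lt_toDual, lt_iff_le_not_ge, hle, hle, hC, hD]
    have h1 : (C : Set Z) ⊂ D := h
    refine ⟨?_, ?_⟩
    · exact h1.1 (hC.subset (subset_closure rfl))
    · intro h2
      apply h1.2
      rw [← hD]
      exact (C.isClosed.closure_subset_iff).mpr (Set.singleton_subset_iff.mpr h2)
  · rw [topologicalKrullDim, ← Order.krullDim_orderDual (α := IrreducibleCloseds Z)]
    refine Order.krullDim_le_of_strictMono
      (fun x : Z => OrderDual.toDual (⟨closure {x}, isIrreducible_singleton.closure,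
        isClosed_closure⟩ : IrreducibleCloseds Z)) ?_
    intro x y h
    rw [OrderDual.toDual_lt_toDual]
    rw [lt_iff_le_not_ge, hle, hle] at h
    change (closure {y} : Set Z) ⊂ closure {x}
    refine ⟨?_, ?_⟩
    · exact isClosed_closure.closure_subset_iff.mpr (Set.singleton_subset_iff.mpr h.1)
    · intro h2
      exact h.2 (h2 (subset_closure rfl))

end General

variable {k : Type u} [Field k] {σ : Type} [Finite σ]

attribute [local instance] MvPolynomial.gradedAlgebra

omit [Finite σ] in
theorem irrelevant_toIdeal :
    (HomogeneousIdeal.irrelevant (homogeneousSubmodule σ k)).toIdeal = irr k σ := by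
  ext f
  rw [mem_irr, HomogeneousIdeal.mem_iff, HomogeneousIdeal.mem_irrelevant_iff]
  have h : (GradedRing.proj (homogeneousSubmodule σ k) 0) f = C (constantCoeff f) := by
    have h1 : (GradedRing.proj (homogeneousSubmodule σ k) 0) f = homogeneousComponent 0 f :=
      decomposition.decompose'_apply f 0
    rw [h1, homogeneousComponent_zero, constantCoeff_eq]
  rw [h]
  exact C_eq_zero

/-- Points of `Proj` as relevant homogeneous primes. -/
noncomputable def toPoint (q : {q : Ideal (MvPolynomial σ k) // q.IsPrime ∧
      q.IsHomogeneous (homogeneousSubmodule σ k) ∧ ¬ irr k σ ≤ q}) :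
    ProjectiveSpectrum (homogeneousSubmodule σ k) :=
  ⟨⟨q.1, q.2.2.1⟩, q.2.1, by
    intro h
    apply q.2.2.2
    exact irrelevant_toIdeal.symm.le.trans h⟩

/-- `dim S/p = dim V_+(p) + 1`. -/
theorem ringKrullDim_eq (p : Ideal (MvPolynomial σ k)) [p.IsPrime]
    (hph : p.IsHomogeneous (homogeneousSubmodule σ k)) (hrel : ¬ irr k σ ≤ p) :
    ringKrullDim (MvPolynomial σ k ⧸ p) =
      topologicalKrullDim ↥(ProjectiveSpectrum.zeroLocus (homogeneousSubmodule σ k)
        (p : Set (MvPolynomial σ k))) + 1 := by
  rw [topologicalKrullDim_eq _ _ (ProjectiveSpectrum.isClosed_zeroLocus _ _)]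
  have hpne : p ≠ ⊤ := Ideal.IsPrime.ne_top inferInstance
  -- the dimension of `R/p`
  obtain ⟨s, hs⟩ : ∃ s : ℕ, ringKrullDim (MvPolynomial σ k ⧸ p) = ((s + 1 : ℕ) : WithBot ℕ∞) := by
    by_cases h0 : hilb p = 0
    · exfalso
      have h1 := ringKrullDim_le_zero_of_isHilb_zero hph (h0 ▸ isHilb_hilb hph)
      obtain ⟨N, hN⟩ := exists_irr_pow_le hph h1
      exact hrel (Ideal.IsPrime.le_of_pow_le hN)
    · exact ⟨_, (ringKrullDim_eq_of_isHilb hph (isHilb_hilb hph) h0).1⟩
  refine le_antisymm ?_ ?_
  · obtain ⟨l, hl, hh⟩ := exists_chain s p hph hs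
    rw [hs]
    push_cast
    gcongr
    have hmem : ∀ i, toPoint (l i) ∈ ProjectiveSpectrum.zeroLocus (homogeneousSubmodule σ k)
        (p : Set (MvPolynomial σ k)) := by
      intro i
      have h1 : l.head.1 ≤ (l i).1 := l.monotone (Fin.zero_le i)
      rw [hh] at h1
      exact h1
    let l' : LTSeries (ProjectiveSpectrum.zeroLocus (homogeneousSubmodule σ k)
        (p : Set (MvPolynomial σ k))) :=
      { length := l.length
        toFun := fun i => ⟨toPoint (l i), hmem i⟩
        step := fun i => by
          have h1 : (l i.castSucc).1 < (l i.succ).1 := l.step i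
          exact h1 }
    have h2 := Order.LTSeries.length_le_krullDim l'
    have h3 : l'.length = s := hl
    rw [h3] at h2
    exact h2
  · rw [Order.krullDim]
    have : Nonempty (LTSeries (ProjectiveSpectrum.zeroLocus (homogeneousSubmodule σ k)
        (p : Set (MvPolynomial σ k)))) :=
      ⟨RelSeries.singleton _ ⟨toPoint ⟨p, inferInstance, hph, hrel⟩,
        (le_refl p : p ≤ p)⟩⟩
    rw [hs]
    push_cast
    gcongr
    refine iSup_le fun l => ?_
    -- the chain of primes, extended by `irr`
    let q : Fin (l.length + 1) → PrimeSpectrum (MvPolynomial σ k) := fun i =>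
      ⟨(l i).1.asHomogeneousIdeal.toIdeal, (l i).1.isPrime⟩
    have hq : ∀ i, q i ∈ PrimeSpectrum.zeroLocus (p : Set (MvPolynomial σ k)) := fun i => (l i).2
    let l' : LTSeries (PrimeSpectrum.zeroLocus (p : Set (MvPolynomial σ k))) :=
      { length := l.length
        toFun := fun i => ⟨q i, hq i⟩
        step := fun i => by
          have h1 : (l i.castSucc).1.asHomogeneousIdeal.toIdeal <
            (l i.succ).1.asHomogeneousIdeal.toIdeal := l.step i
          exact h1 }
    let top : PrimeSpectrum.zeroLocus (p : Set (MvPolynomial σ k)) :=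
      ⟨⟨irr k σ, isMaximal_irr.isPrime⟩, le_irr hph hpne⟩
    have hlast : l'.last < top := by
      have h1 : (l.last).1.asHomogeneousIdeal.toIdeal < irr k σ := by
        refine lt_of_le_of_ne (le_irr (l.last).1.asHomogeneousIdeal.isHomogeneous
          (l.last).1.isPrime.ne_top) ?_
        intro h
        apply (l.last).1.not_irrelevant_le
        exact irrelevant_toIdeal.le.trans h.symm.le
      exact h1
    have h2 := Order.LTSeries.length_le_krullDim (l'.snoc top hlast)
    rw [← ringKrullDim_quotient, hs] at h2
    have h3 : (l'.snoc top hlast).length = l.length + 1 := by simp [l']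
    rw [h3] at h2
    have h4 : l.length + 1 ≤ s + 1 := by exact_mod_cast h2
    have h5 : l.length ≤ s := by omega
    exact_mod_cast h5

end K657.TopDim
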