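import Groth.Agent.ProjDeg.K657.NormalSec
import Groth.Agent.ProjDeg.K657.TopDim

/-!
# Few forms of positive degree have a common zero
-/

set_option autoImplicit false

universe u v

namespace K657.CommonZero

open MvPolynomial K657.HilbDim

variable {k : Type u} [Field k]

theorem height_irr (N : ℕ) : (irr k (Fin N)).height = N := by
  have h := Groth.Agent.CalgC.DimFT.height_eq_ringKrullDim_of_isMaximal k
    (MvPolynomial (Fin N) k) (irr k (Fin N))
  rw [MvPolynomial.ringKrullDim_of_isNoetherianRing, ringKrullDim_eq_zero_of_field, zero_add] at h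
  rw [Nat.card_eq_fintype_card, Fintype.card_fin] at h
  exact_mod_cast h

/-- At most `n` forms of positive degree in `n + 1` variables have a common zero in `P^n`. -/
theorem exists_common_zero {n : ℕ} {J : Type v} [Finite J] (hJ : Nat.card J ≤ n) 
    (F : J → MvPolynomial (Fin (n + 1)) k) (d : J → ℕ) (hd : ∀ j, 0 < d j)
    (hF : ∀ j, (F j).IsHomogeneous (d j)) :
    ∃ x : ProjectiveSpectrum (homogeneousSubmodule (Fin (n + 1)) k), ∀ j, F j ∈ x.asHomogeneousIdeal := by
  classical
  by_contra hcon
  push Not at hcon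
  let I : Ideal (MvPolynomial (Fin (n + 1)) k) := Ideal.span (Set.range F)
  have hI : I.IsHomogeneous (homogeneousSubmodule (Fin (n + 1)) k) := by
    refine Ideal.homogeneous_span _ _ ?_
    rintro _ ⟨j, rfl⟩
    exact ⟨d j, hF j⟩
  have h1 := NormalSec.irrelevant_le_radical (homogeneousSubmodule (Fin (n + 1)) k) I hI (fun x hx => by
    obtain ⟨j, hj⟩ := hcon x
    exact hj (hx (Ideal.subset_span ⟨j, rfl⟩)))
  rw [TopDim.irrelevant_toIdeal] at h1
  have hle : I ≤ irr k (Fin (n + 1)) := by
    rw [Ideal.span_le]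
    rintro _ ⟨j, rfl⟩
    exact mem_irr_of_isHomogeneous (hF j) (hd j)
  have hmin : irr k (Fin (n + 1)) ∈ I.minimalPrimes := by
    refine ⟨⟨inferInstance, hle⟩, fun q hq _ => ?_⟩
    exact h1.trans (hq.1.radical_le_iff.2 hq.2)
  have h2 := Ideal.height_le_card_of_mem_minimalPrimes_span (Set.finite_range F) hmin
  rw [height_irr] at h2
  have h3 : (Set.range F).ncard ≤ n := by
    rw [← Set.image_univ]
    refine (Set.ncard_image_le Set.finite_univ).trans ?_
    rw [Set.ncard_univ]
    exact hJ
  have h5 : n + 1 ≤ (Set.range F).ncard := by exact_mod_cast h2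
  omega

end K657.CommonZero
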