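import Groth.Agent.ProjDeg.K657.GlobGen
import Groth.Agent.ProjDeg.K657.CommonZero
import Groth.Agent.S0024
import Groth.Agent.S1697

/-!
# Morphisms `P^n → P^m`, `m < n`, are constant
-/

set_option autoImplicit false

universe u

namespace K657.ConstMap

open CategoryTheory CategoryTheory.Limits AlgebraicGeometry TopologicalSpace Opposite TopCat
open Groth.Agent.Fdesc.LocGen
open Groth.Agent.VarietyB Groth.Agent.VarietyB.ProjGlue Groth.Agent.VarietyB.ProjHom
open Groth.Agent.Ega2.H295.PnUniq Groth.Agent.Ega2.H295.PnCoord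

attribute [local instance] MvPolynomial.gradedAlgebra

variable {k : Type u} [Field k]

/-- Projective space has a rational point. -/
theorem exists_point (n : ℕ) : ∃ z : Spec (CommRingCat.of k) ⟶ CohB1.ProjSpace n k,
    z ≫ CohB1.ProjSpace.toSpec n k = 𝟙 _ := by
  let φ : MvPolynomial (Fin (n + 1)) k →+* Γ(Spec (CommRingCat.of k), ⊤) :=
    (Scheme.ΓSpecIso (CommRingCat.of k)).inv.hom.comp (MvPolynomial.eval (fun _ => (1 : k)))
  have hφ : IsUnit (φ (MvPolynomial.X 0)) := by simp [φ]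
  have hX : (MvPolynomial.X 0 : MvPolynomial (Fin (n + 1)) k) ∈ CohB1.polyGrading n k 1 :=
    MvPolynomial.isHomogeneous_X k (0 : Fin (n + 1))
  have h0 := toProj_toSpecZero (CohB1.polyGrading n k) φ hX Nat.one_pos hφ
  have h : CommRingCat.ofHom ((φ.comp (algebraMap (CohB1.polyGrading n k 0)
      (MvPolynomial (Fin (n + 1)) k))).comp (algebraMap k (CohB1.polyGrading n k 0))) =
      (Scheme.ΓSpecIso (CommRingCat.of k)).inv := by
    ext r
    change (Scheme.ΓSpecIso (CommRingCat.of k)).inv.hom (MvPolynomial.eval (fun _ => (1 : k))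
      (MvPolynomial.C r)) = _
    rw [MvPolynomial.eval_C]
  refine ⟨toProj (CohB1.polyGrading n k) φ hX Nat.one_pos hφ, ?_⟩
  change toProj (CohB1.polyGrading n k) φ hX Nat.one_pos hφ ≫ Proj.toSpecZero (CohB1.polyGrading n k) ≫
    Spec.map (CommRingCat.ofHom (algebraMap k (CohB1.polyGrading n k 0))) = _
  rw [← Category.assoc, h0, Category.assoc, ← Spec.map_comp, ← CommRingCat.ofHom_comp, h]
  exact toSpecΓ_SpecMap_ΓSpecIso_inv _

variable {X : Scheme.{u}} {m : ℕ}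

/-- A morphism which maps into a chart and has constant coordinates is constant. -/
theorem const_of_ratio (f : X ⟶ Proj (MvPolynomial.homogeneousSubmodule (Fin (m + 1)) k))
    (p : X ⟶ Spec (CommRingCat.of k)) (hf : f ≫ ProjStd.toSpec (Fin (m + 1)) k = p)
    (z : Spec (CommRingCat.of k) ⟶ X) (hz : z ≫ p = 𝟙 _) (i : Fin (m + 1))
    (e : ⊤ ≤ f ⁻¹ᵁ Dp (Fin (m + 1)) k i) (c : Fin (m + 1) → k)
    (hc : ∀ j, f.appLE (Dp (Fin (m + 1)) k i) ⊤ e (ProjStd.ratio (Fin (m + 1)) k i j) =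
      CoordData.baseHom p ⊤ (c j)) : f = p ≫ z ≫ f := by
  have e' : ⊤ ≤ (p ≫ z ≫ f) ⁻¹ᵁ Dp (Fin (m + 1)) k i := by
    intro x _
    exact e (Opens.mem_top ((p ≫ z) x))
  have e'' : ⊤ ≤ (p ≫ z) ⁻¹ᵁ (⊤ : X.Opens) := le_rfl
  have h1 := ι_comp_eq_of_ratio f (p ≫ z ≫ f) (by
    rw [Category.assoc, Category.assoc, hf, hz, Category.comp_id]) (V := ⊤) i e e' (fun j => by
    have h2 := Scheme.Hom.appLE_comp_appLE (p ≫ z) f (Dp (Fin (m + 1)) k i) ⊤ ⊤ e e''
    have h3 : (p ≫ z ≫ f).appLE (Dp (Fin (m + 1)) k i) ⊤ e' =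
        f.appLE (Dp (Fin (m + 1)) k i) ⊤ e ≫ (p ≫ z).appLE ⊤ ⊤ e'' := by
      rw [h2]
      congr 1
    rw [h3, hc j]
    change _ = (p ≫ z).appLE ⊤ ⊤ e'' (f.appLE (Dp (Fin (m + 1)) k i) ⊤ e (ProjStd.ratio (Fin (m + 1)) k i j))
    rw [hc j, appLE_baseHom (p ≫ z) p e'' (c j), Category.assoc, hz, Category.comp_id])
  have h4 := congrArg (fun t => X.topIso.inv ≫ t) h1
  have h5 : X.topIso.inv ≫ (⊤ : X.Opens).ι = 𝟙 _ := X.topIso.inv_hom_id
  rwa [← Category.assoc, ← Category.assoc, h5, Category.id_comp, Category.id_comp] at h4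

end K657.ConstMap
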