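import Groth.Prelude.Def_Twist2
import Mathlib.RingTheory.IntegralClosure.IsIntegral.AlmostIntegral
import Mathlib.RingTheory.IntegralClosure.IntegrallyClosed
import Mathlib.RingTheory.Localization.FractionRing
import Mathlib.RingTheory.GradedAlgebra.Radical

/-!
# Global sections of `O(d)` on `Proj` of a normal graded domain
-/

set_option autoImplicit false

universe u

namespace K657.NormalSec

open TopologicalSpace Opposite

variable {R A : Type u} [CommRing R] [CommRing A] [Algebra R A]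
  (𝒜 : ℕ → Submodule R A) [GradedAlgebra 𝒜]

/-- If `J` is a homogeneous ideal contained in no relevant homogeneous prime then the irrelevant
ideal lies in the radical of `J`. -/
theorem irrelevant_le_radical (J : Ideal A) (hJ : J.IsHomogeneous 𝒜)
    (h : ∀ x : ProjectiveSpectrum 𝒜, ¬ J ≤ x.asHomogeneousIdeal.toIdeal) :
    (HomogeneousIdeal.irrelevant 𝒜).toIdeal ≤ J.radical := by
  rw [Ideal.radical_eq_sInf]
  refine le_sInf fun P hP => ?_
  obtain ⟨hle, hPp⟩ := hP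
  have h1 : J ≤ (P.homogeneousCore 𝒜).toIdeal := by
    rw [← hJ.toIdeal_homogeneousCore_eq_self]
    exact Ideal.homogeneousCore_mono _ hle
  by_contra hcon
  have h2 : ¬ HomogeneousIdeal.irrelevant 𝒜 ≤ P.homogeneousCore 𝒜 := by
    intro h3
    apply hcon
    exact le_trans (show (HomogeneousIdeal.irrelevant 𝒜).toIdeal ≤
      (P.homogeneousCore 𝒜).toIdeal from h3) (Ideal.toIdeal_homogeneousCore_le 𝒜 P)
  exact h ⟨P.homogeneousCore 𝒜, hPp.homogeneousCore, h2⟩ h1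

theorem mem_irrelevant_pow (hgen : ∀ i : ℕ, 𝒜 1 * 𝒜 i = 𝒜 (i + 1)) (N : ℕ) :
    ∀ m, N ≤ m → ∀ x ∈ 𝒜 m, x ∈ (HomogeneousIdeal.irrelevant 𝒜).toIdeal ^ N := by
  induction N with
  | zero => intro m _ x _; simp
  | succ N ih =>
    intro m hm x hx
    obtain ⟨m', rfl⟩ : ∃ m', m = m' + 1 := ⟨m - 1, by omega⟩
    rw [← hgen m'] at hx
    refine Submodule.mul_induction_on hx ?_ ?_
    · intro y hy z hz
      rw [pow_succ']
      refine Ideal.mul_mem_mul ?_ (ih m' (by omega) z hz)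
      exact HomogeneousIdeal.mem_irrelevant_of_mem 𝒜 one_pos hy
    · intro y z hy hz
      exact Ideal.add_mem _ hy hz

/-- The graded piece of the equation `a₀ r = c s₀`. -/
theorem component_eq {i₀ j₀ d : ℕ} {a₀ s₀ : A} (ha : a₀ ∈ 𝒜 i₀) (hs : s₀ ∈ 𝒜 j₀)
    (hij : i₀ = j₀ + d) {r c : A} (h : a₀ * r = c * s₀) (m : ℕ) :
    a₀ * (DirectSum.decompose 𝒜 r m : A) = (DirectSum.decompose 𝒜 c (m + d) : A) * s₀ := by
  have h1 := DirectSum.coe_decompose_mul_add_of_left_mem 𝒜 (j := m) (b := r) ha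
  have h2 := DirectSum.coe_decompose_mul_add_of_right_mem 𝒜 (i := m + d) (a := c) hs
  rw [← h1, ← h2, h]
  have h3 : i₀ + m = m + d + j₀ := by omega
  rw [h3]

theorem key [IsDomain A] [IsNoetherianRing A]
    (hgen : ∀ i : ℕ, 𝒜 1 * 𝒜 i = 𝒜 (i + 1)) (h1 : 𝒜 1 ≠ ⊥) (hint : IsIntegrallyClosed A) (d : ℕ)
    {i₀ j₀ : ℕ} {a₀ s₀ : A} (ha : a₀ ∈ 𝒜 i₀) (hs : s₀ ∈ 𝒜 j₀) (hij : i₀ = j₀ + d) (hs0 : s₀ ≠ 0)
    (hJ : ∀ x : ProjectiveSpectrum 𝒜, ∃ s a : A, s ∉ x.asHomogeneousIdeal ∧ a₀ * s = a * s₀) :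
    ∃ b ∈ 𝒜 d, a₀ = b * s₀ := by
  classical
  let J : Ideal A := Submodule.comap (LinearMap.mulLeft A a₀) (Ideal.span {s₀})
  have memJ : ∀ r, r ∈ J ↔ ∃ c, a₀ * r = c * s₀ := by
    intro r
    change a₀ * r ∈ Ideal.span {s₀} ↔ _
    rw [Ideal.mem_span_singleton']
    exact ⟨fun ⟨c, hc⟩ => ⟨c, hc.symm⟩, fun ⟨c, hc⟩ => ⟨c, hc.symm⟩⟩
  have hJh : J.IsHomogeneous 𝒜 := by
    intro m r hr
    obtain ⟨c, hc⟩ := (memJ r).mp hr
    exact (memJ _).mpr ⟨_, component_eq 𝒜 ha hs hij hc m⟩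
  have hrad := irrelevant_le_radical 𝒜 J hJh (fun x hle => by
    obtain ⟨s, a, hsx, hsa⟩ := hJ x
    exact hsx (hle ((memJ s).mpr ⟨a, hsa⟩)))
  obtain ⟨N, hN⟩ := Ideal.exists_pow_le_of_le_radical_of_fg hrad (IsNoetherian.noetherian _)
  have hmem : ∀ m, N ≤ m → ∀ x ∈ 𝒜 m, ∃ c ∈ 𝒜 (m + d), a₀ * x = c * s₀ := by
    intro m hm x hx
    obtain ⟨c, hc⟩ := (memJ x).mp (hN (mem_irrelevant_pow 𝒜 hgen N m hm x hx))
    refine ⟨_, (DirectSum.decompose 𝒜 c (m + d)).2, ?_⟩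
    have := component_eq 𝒜 ha hs hij hc m
    rwa [DirectSum.decompose_of_mem_same 𝒜 hx] at this
  obtain ⟨y, hy, hy0⟩ := (Submodule.ne_bot_iff _).mp h1
  let K := FractionRing A
  have hs0' : algebraMap A K s₀ ≠ 0 := by
    rw [Ne, IsFractionRing.to_map_eq_zero_iff]; exact hs0
  set q : K := algebraMap A K a₀ / algebraMap A K s₀ with hq
  have hqn : ∀ n m, N ≤ m → ∀ r ∈ 𝒜 m, r • q ^ n ∈ (algebraMap A K).range := by
    intro n
    induction n with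
    | zero =>
      intro m _ r _
      exact ⟨r, by rw [pow_zero, Algebra.smul_def, mul_one]⟩
    | succ n ih =>
      intro m hm r hr
      obtain ⟨c, hc, hac⟩ := hmem m hm r hr
      have h2 : r • q ^ (n + 1) = c • q ^ n := by
        have h3 : algebraMap A K r * q = algebraMap A K c := by
          rw [hq, mul_div_assoc', div_eq_iff hs0', ← map_mul, ← map_mul, ← hac, mul_comm]
        rw [Algebra.smul_def, Algebra.smul_def, pow_succ', ← mul_assoc, h3]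
      rw [h2]
      exact ih (m + d) (by omega) c hc
  have halm : IsAlmostIntegral A q := by
    refine ⟨y ^ N, ?_, fun n => hqn n (N • 1) (by simp) (y ^ N) (SetLike.pow_mem_graded N hy)⟩
    rw [mem_nonZeroDivisors_iff_ne_zero]
    exact pow_ne_zero N hy0
  obtain ⟨b, hb⟩ := IsIntegrallyClosed.isIntegral_iff.mp halm.isIntegral
  have hb' : a₀ = b * s₀ := by
    apply IsFractionRing.injective A K
    rw [map_mul, hb, hq, div_mul_cancel₀ _ hs0']
  refine ⟨b, ?_, hb'⟩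
  have h2 := DirectSum.coe_decompose_mul_add_of_right_mem 𝒜 (i := d) (a := b) hs
  have ha' : a₀ ∈ 𝒜 (d + j₀) := by rw [add_comm, ← hij]; exact ha
  rw [← hb', DirectSum.decompose_of_mem_same 𝒜 ha'] at h2
  have h3 : b = (DirectSum.decompose 𝒜 b d : A) := by
    apply mul_right_cancel₀ hs0
    rw [← h2, hb']
  rw [h3]
  exact (DirectSum.decompose 𝒜 b d).2

/-- The generic point of `Proj` of a graded domain with nonzero degree one part. -/
noncomputable def gen [IsDomain A] (h1 : 𝒜 1 ≠ ⊥) : ProjectiveSpectrum 𝒜 :=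
  ⟨⊥, (by
    have : (⊥ : HomogeneousIdeal 𝒜).toIdeal = ⊥ := rfl
    rw [this]
    exact Ideal.isPrime_bot), by
    intro h
    obtain ⟨y, hy, hy0⟩ := (Submodule.ne_bot_iff _).mp h1
    exact hy0 ((Ideal.mem_bot).mp (h (HomogeneousIdeal.mem_irrelevant_of_mem 𝒜 one_pos hy)))⟩

theorem gen_mem [IsDomain A] (h1 : 𝒜 1 ≠ ⊥) (U : Opens (ProjectiveSpectrum.top 𝒜))
    (x : ProjectiveSpectrum 𝒜) (hx : x ∈ U) : gen 𝒜 h1 ∈ U := by
  have h : x ∈ closure ({gen 𝒜 h1} : Set (ProjectiveSpectrum 𝒜)) := by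
    rw [← ProjectiveSpectrum.le_iff_mem_closure]
    exact bot_le (a := x.asHomogeneousIdeal)
  rw [← specializes_iff_mem_closure] at h
  exact h.mem_open U.2 hx

theorem notMem_gen [IsDomain A] (h1 : 𝒜 1 ≠ ⊥) {s : A} :
    s ∉ (gen 𝒜 h1).asHomogeneousIdeal ↔ s ≠ 0 := by
  rw [Ne, ← Ideal.mem_bot]
  rfl

open Twist in
theorem bijective [IsDomain A] [IsNoetherianRing A]
    (hgen : ∀ i : ℕ, 𝒜 1 * 𝒜 i = 𝒜 (i + 1)) (h1 : 𝒜 1 ≠ ⊥) (hint : IsIntegrallyClosed A) (d : ℕ) :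
    Function.Bijective (fun a : ↥(𝒜 d) => Twist.globalOf 𝒜 a) := by
  -- cross multiplication at the generic point
  have cross : ∀ {a b s t : A} (hs : s ∉ (gen 𝒜 h1).asHomogeneousIdeal)
      (ht : t ∉ (gen 𝒜 h1).asHomogeneousIdeal),
      (Localization.mk a ⟨s, hs⟩ : Loc 𝒜 (gen 𝒜 h1)) = Localization.mk b ⟨t, ht⟩ →
      a * t = b * s := by
    intro a b s t hs ht h
    rw [Localization.mk_eq_mk_iff, Localization.r_iff_exists] at h
    obtain ⟨c, hc⟩ := h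
    have hc0 : (c : A) ≠ 0 := (notMem_gen 𝒜 h1).mp c.2
    have := mul_left_cancel₀ hc0 hc
    rw [mul_comm a t, mul_comm b s]
    exact this
  have cross' : ∀ (x : ProjectiveSpectrum 𝒜) {a b s t : A} (hs : s ∉ x.asHomogeneousIdeal)
      (ht : t ∉ x.asHomogeneousIdeal), a * t = b * s →
      (Localization.mk a ⟨s, hs⟩ : Loc 𝒜 x) = Localization.mk b ⟨t, ht⟩ := by
    intro x a b s t hs ht h
    rw [Localization.mk_eq_mk_iff, Localization.r_iff_exists]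
    refine ⟨1, ?_⟩
    change (1 : A) * (t * a) = 1 * (s * b)
    rw [one_mul, one_mul, mul_comm t a, h, mul_comm]
  constructor
  · intro a b hab
    have h2 := congrArg (fun f : sectN (𝒜 := 𝒜) (d : ℤ) (op ⊤) =>
      (f.1 ⟨gen 𝒜 h1, trivial⟩).1) hab
    have h3 := cross _ _ h2
    apply Subtype.ext
    simpa using h3
  · intro f
    -- local representations
    have hrep : ∀ x : ProjectiveSpectrum 𝒜, ∃ (V : Opens (ProjectiveSpectrum.top 𝒜)) (_ : x ∈ V)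
        (i j : ℕ) (a s : A) (_ : a ∈ 𝒜 i) (_ : s ∈ 𝒜 j)
        (nin : ∀ y : ProjectiveSpectrum 𝒜, y ∈ V → s ∉ y.asHomogeneousIdeal),
        ((i : ℤ) = j + d ∨ a = 0) ∧ ∀ (y : ProjectiveSpectrum 𝒜) (hy : y ∈ V),
          (f.1 ⟨y, trivial⟩).1 = Localization.mk a ⟨s, nin y hy⟩ := by
      intro x
      obtain ⟨V, hxV, iV, i, j, a, s, nin, hij, hval⟩ := f.2 ⟨x, trivial⟩
      exact ⟨V, hxV, i, j, a.1, s.1, a.2, s.2, fun y hy => nin ⟨y, hy⟩, hij,
        fun y hy => hval ⟨y, hy⟩⟩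
    obtain ⟨V₀, hV₀, i₀, j₀, a₀, s₀, ha₀, hs₀, nin₀, hij₀, hval₀⟩ := hrep (gen 𝒜 h1)
    have hs0 : s₀ ≠ 0 := (notMem_gen 𝒜 h1).mp (nin₀ _ hV₀)
    have hJ : ∀ x : ProjectiveSpectrum 𝒜, ∃ (s a : A) (hs : s ∉ x.asHomogeneousIdeal),
        a₀ * s = a * s₀ ∧ (f.1 ⟨x, trivial⟩).1 = Localization.mk a ⟨s, hs⟩ := by
      intro x
      obtain ⟨V, hV, i, j, a, s, ha, hs, nin, hij, hval⟩ := hrep x
      have hg := gen_mem 𝒜 h1 V x hV
      refine ⟨s, a, nin x hV, ?_, hval x hV⟩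
      refine cross (nin₀ _ hV₀) (nin _ hg) ?_
      rw [← hval _ hg, ← hval₀ _ hV₀]
    obtain ⟨b, hb, hb'⟩ : ∃ b ∈ 𝒜 d, a₀ = b * s₀ := by
      rcases hij₀ with h | h
      · refine key 𝒜 hgen h1 hint d ha₀ hs₀ (by omega) hs0 fun x => ?_
        obtain ⟨s, a, hs, h2, -⟩ := hJ x
        exact ⟨s, a, hs, h2⟩
      · exact ⟨0, zero_mem _, by rw [h, zero_mul]⟩
    refine ⟨⟨b, hb⟩, ?_⟩
    apply Subtype.ext
    funext x
    apply Subtype.ext
    obtain ⟨s, a, hs, h2, h3⟩ := hJ x.1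
    change Localization.mk b _ = (f.1 ⟨x.1, trivial⟩).1
    rw [h3]
    refine cross' x.1 _ _ ?_
    rw [mul_one]
    apply mul_right_cancel₀ hs0
    rw [← h2, hb']
    ring

end K657.NormalSec
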