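import Groth.Agent.ProjDeg.K657.SepCrit
import Groth.Agent.VarietyB.ProjSpaceProper

/-!
# Closed immersions into projective space: the criterion
-/

set_option autoImplicit false

universe u

namespace K657.SepFinal

open CategoryTheory CategoryTheory.Limits AlgebraicGeometry TopologicalSpace IsLocalRing
open K657.SepGerm K657.SepCrit

attribute [local instance] MvPolynomial.gradedAlgebra

variable {k : Type u} [Field k] {X : Scheme.{u}} {n : ℕ}

/-- `Σ c_j s_j` vanishes at `P`. -/
def Van (pX : X ⟶ Spec (CommRingCat.of k)) (f : X ⟶ CohB1.ProjSpace n k) (P : X) (c : Fin (n + 1) → k) : Prop :=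
  (((Scheme.Modules.pullback f).obj (Twist.twistProjSpace n k 1)).presheaf.germ ⊤ P trivial).hom
                (∑ i, ProjUP.toGlobal pX (c i) •
                  ProjUP.pullSec f (Twist.twistProjSpace n k 1) (ProjUP.coord n k i)) ∈
              (IsLocalRing.maximalIdeal ↑(X.presheaf.stalk P) •
                (⊤ : Submodule ↑(X.presheaf.stalk P) ↑(((Scheme.Modules.pullback f).obj (Twist.twistProjSpace n k 1)).presheaf.stalk P)))

/-- The tangent vectors at `P` are separated. -/
def Tan (pX : X ⟶ Spec (CommRingCat.of k)) (f : X ⟶ CohB1.ProjSpace n k) (P : X) : Prop :=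
          (IsLocalRing.maximalIdeal ↑(X.presheaf.stalk P) •
                (⊤ : Submodule ↑(X.presheaf.stalk P) ↑(((Scheme.Modules.pullback f).obj (Twist.twistProjSpace n k 1)).presheaf.stalk P))) ≤
            Submodule.span ↑(X.presheaf.stalk P)
                {v | ∃ c : Fin (n + 1) → k,
                  v = (((Scheme.Modules.pullback f).obj (Twist.twistProjSpace n k 1)).presheaf.germ ⊤ P trivial).hom
                (∑ i, ProjUP.toGlobal pX (c i) •
                  ProjUP.pullSec f (Twist.twistProjSpace n k 1) (ProjUP.coord n k i)) ∧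
                  v ∈ (IsLocalRing.maximalIdeal ↑(X.presheaf.stalk P) •
                (⊤ : Submodule ↑(X.presheaf.stalk P) ↑(((Scheme.Modules.pullback f).obj (Twist.twistProjSpace n k 1)).presheaf.stalk P)))} ⊔
              (IsLocalRing.maximalIdeal ↑(X.presheaf.stalk P) ^ 2 •
                (⊤ : Submodule ↑(X.presheaf.stalk P) ↑(((Scheme.Modules.pullback f).obj (Twist.twistProjSpace n k 1)).presheaf.stalk P)))

variable [IsAlgClosed k] {pX : X ⟶ Spec (CommRingCat.of k)}
  {f : X ⟶ CohB1.ProjSpace n k}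

theorem of_isClosedImmersion [LocallyOfFiniteType pX] (hf : f ≫ CohB1.ProjSpace.toSpec n k = pX)
    [IsClosedImmersion f] :
    (∀ P Q : X, IsClosed ({P} : Set X) → IsClosed ({Q} : Set X) → P ≠ Q → 
      ∃ c : Fin (n + 1) → k, Van pX f P c ∧ ¬ Van pX f Q c) ∧
    ∀ P : X, IsClosed ({P} : Set X) → Tan pX f P := by
  constructor
  · intro P Q hP hQ hne
    by_contra hcon
    push Not at hcon
    exact hne (f.injective (eq_of_forall_mem (f := f) hf P Q hP hcon))
  · intro P hP
    refine (tangent_iff (f := f) hf P hP).2 fun b hb => ?_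
    obtain ⟨a, rfl⟩ := f.stalkMap_surjective P b
    refine Ideal.mem_map_of_mem _ ?_
    have := ((local_hom_TFAE (f.stalkMap P).hom).out 0 4 rfl rfl).1 inferInstance
    exact this.le hb

theorem isClosedImmersion [IsProper pX] (hf : f ≫ CohB1.ProjSpace.toSpec n k = pX)
    (h1 : ∀ P Q : X, IsClosed ({P} : Set X) → IsClosed ({Q} : Set X) → P ≠ Q → 
      ∃ c : Fin (n + 1) → k, (Van pX f P c ∧ ¬ Van pX f Q c) ∨ (Van pX f Q c ∧ ¬ Van pX f P c))
    (h2 : ∀ P : X, IsClosed ({P} : Set X) → Tan pX f P) : IsClosedImmersion f := by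
  have hp : IsProper (CohB1.ProjSpace.toSpec n k) := Groth.Agent.VarietyB.ProjSpaceProper.isProper_toSpec n k
  have hpf : IsProper f := by
    have : IsProper (f ≫ CohB1.ProjSpace.toSpec n k) := by rw [hf]; infer_instance
    exact IsProper.of_comp f (CohB1.ProjSpace.toSpec n k)
  refine K657.PtCrit.isClosedImmersion_of_points f (CohB1.ProjSpace.toSpec n k) ?_ ?_
  · intro P Q hP hQ heq
    by_contra hne
    obtain ⟨c, hc | hc⟩ := h1 P Q hP hQ hne
    · exact hc.2 ((mem_iff_of_eq (f := f) hf P Q heq c).1 hc.1)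
    · exact hc.2 ((mem_iff_of_eq (f := f) hf P Q heq c).2 hc.1)
  · intro P hP
    exact (tangent_iff (f := f) hf P hP).1 (h2 P hP)

omit [IsAlgClosed k] in
theorem isProper_of_closed (hproj : ∃ (N : ℕ) (ι : X ⟶ CohB1.ProjSpace N k),
      IsClosedImmersion ι ∧ ι ≫ CohB1.ProjSpace.toSpec N k = pX) : IsProper pX := by
  obtain ⟨N, ι, hι, rfl⟩ := hproj
  have hp : IsProper (CohB1.ProjSpace.toSpec N k) := Groth.Agent.VarietyB.ProjSpaceProper.isProper_toSpec N k
  infer_instance

end K657.SepFinal
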