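import Mathlib.Algebra.Polynomial.Taylor
import Mathlib.Algebra.Polynomial.Roots
import Mathlib.Tactic

/-!
# Difference polynomials over `ℚ`
-/

set_option autoImplicit false

namespace K657.PolyDiff

open Polynomial

/-- Two rational polynomials which agree at all large integers are equal. -/
theorem eq_of_eventually {P Q : ℚ[X]} (m₀ : ℕ)
    (h : ∀ m : ℕ, m₀ ≤ m → P.eval (m : ℚ) = Q.eval (m : ℚ)) : P = Q := by
  apply Polynomial.eq_of_infinite_eval_eq
  refine Set.Infinite.mono (s := (fun m : ℕ => (m : ℚ)) '' Set.Ici m₀) ?_ ?_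
  · rintro _ ⟨m, hm, rfl⟩
    exact h m hm
  · exact (Set.Ici_infinite m₀).image (Nat.cast_injective.injOn)

theorem coeff_taylor_pred (P : ℚ[X]) (t : ℕ) (ht : P.natDegree ≤ t + 1) (r : ℚ) :
    (taylor r P).coeff t = P.coeff t + (t + 1) * P.coeff (t + 1) * r := by
  rw [taylor_coeff]
  have h1 : (hasseDeriv t P).natDegree ≤ 1 := (natDegree_hasseDeriv_le P t).trans (by omega)
  rw [Polynomial.eq_X_add_C_of_natDegree_le_one h1]
  simp only [hasseDeriv_coeff, eval_add, eval_mul, eval_C, eval_X]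
  have h2 : ((0 + t).choose t : ℚ) = 1 := by simp
  have h3 : ((1 + t).choose t : ℚ) = t + 1 := by
    rw [add_comm 1 t, Nat.choose_succ_self_right]; push_cast; ring
  rw [h2, h3, zero_add, add_comm 1 t]
  ring

/-- The difference polynomial `P - P(X - d)`. -/
noncomputable def diff (d : ℕ) (P : ℚ[X]) : ℚ[X] := P - taylor (-(d : ℚ)) P

theorem eval_diff (d : ℕ) (P : ℚ[X]) (x : ℚ) :
    (diff d P).eval x = P.eval x - P.eval (x - d) := by
  rw [diff, eval_sub, taylor_eval, sub_eq_add_neg x]

theorem coeff_diff (d : ℕ) (P : ℚ[X]) (t : ℕ) (ht : P.natDegree ≤ t + 1) :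
    (diff d P).coeff t = d * ((t + 1) * P.coeff (t + 1)) := by
  rw [diff, coeff_sub, coeff_taylor_pred P t ht]; ring

theorem coeff_taylor_top (P : ℚ[X]) (t : ℕ) (ht : P.natDegree ≤ t) (r : ℚ) :
    (taylor r P).coeff t = P.coeff t := by
  have := coeff_taylor_pred P t (by omega) r
  rw [this, coeff_eq_zero_of_natDegree_lt (n := t + 1) (by omega)]
  ring

theorem natDegree_diff_le (d : ℕ) (P : ℚ[X]) (t : ℕ) (ht : P.natDegree ≤ t + 1) :
    (diff d P).natDegree ≤ t := by
  rw [natDegree_le_iff_coeff_eq_zero]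
  intro N hN
  by_cases h : N = t + 1
  · subst h
    rw [diff, coeff_sub, coeff_taylor_top P _ ht, sub_self]
  · rw [diff, coeff_sub, coeff_eq_zero_of_natDegree_lt (by omega),
      coeff_eq_zero_of_natDegree_lt (by rw [natDegree_taylor]; omega), sub_self]

theorem diff_eq_zero_of_natDegree (d : ℕ) (P : ℚ[X]) (hP : P.natDegree = 0) : diff d P = 0 := by
  obtain ⟨c, rfl⟩ := natDegree_eq_zero.mp hP
  rw [diff, taylor_C, sub_self]

theorem natDegree_diff {d : ℕ} (hd : 0 < d) {P : ℚ[X]} (hP : 1 ≤ P.natDegree) :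
    (diff d P).natDegree + 1 = P.natDegree ∧
      (diff d P).leadingCoeff = d * (P.natDegree * P.leadingCoeff) ∧ diff d P ≠ 0 := by
  obtain ⟨t, ht⟩ : ∃ t, P.natDegree = t + 1 := ⟨P.natDegree - 1, by omega⟩
  have h1 := coeff_diff d P t ht.le
  have hP0 : P ≠ 0 := by rintro rfl; simp at hP
  have h0 : P.coeff (t + 1) ≠ 0 := by
    rw [← ht]; exact leadingCoeff_ne_zero.mpr hP0
  have h2 : (diff d P).coeff t ≠ 0 := by
    rw [h1]
    have : (d : ℚ) ≠ 0 := by exact_mod_cast hd.ne'
    have : ((t : ℚ) + 1) ≠ 0 := by positivity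
    positivity
  have h3 : (diff d P).natDegree = t :=
    le_antisymm (natDegree_diff_le d P t ht.le) (le_natDegree_of_ne_zero h2)
  refine ⟨by omega, ?_, ?_⟩
  · rw [leadingCoeff, h3, h1, leadingCoeff, ht]
    push_cast
    ring
  · intro h
    rw [h] at h2
    simp at h2

theorem leadingCoeff_diff_pos {d : ℕ} (hd : 0 < d) {P : ℚ[X]} (hP : 1 ≤ P.natDegree) :
    0 < (diff d P).leadingCoeff ↔ 0 < P.leadingCoeff := by
  rw [(natDegree_diff hd hP).2.1]
  have h1 : (0 : ℚ) < d := by exact_mod_cast hd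
  have h2 : (0 : ℚ) < P.natDegree := by exact_mod_cast hP
  constructor
  · intro h
    exact pos_of_mul_pos_right (pos_of_mul_pos_right h h1.le) h2.le
  · intro h
    positivity

/-- Every polynomial is a difference polynomial. -/
theorem exists_diff_one (Q : ℚ[X]) : ∃ P : ℚ[X], diff 1 P = Q := by
  induction h : Q.natDegree using Nat.strong_induction_on generalizing Q with
  | _ t ih =>
    by_cases hQ : Q = 0
    · exact ⟨0, by rw [hQ]; exact diff_eq_zero_of_natDegree 1 0 (by simp)⟩
    set P₁ : ℚ[X] := monomial (t + 1) (Q.leadingCoeff / (t + 1)) with hP₁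
    have ht1 : ((t : ℚ) + 1) ≠ 0 := by positivity
    have hd1 : P₁.natDegree ≤ t + 1 := natDegree_monomial_le _
    have h1 := coeff_diff 1 P₁ t hd1
    have h2 : (diff 1 P₁).coeff t = Q.coeff t := by
      rw [h1, hP₁, coeff_monomial_same, leadingCoeff, h]
      push_cast
      field_simp
    have h3 := natDegree_diff_le 1 P₁ t hd1
    have hlin : ∀ A B : ℚ[X], diff 1 (A + B) = diff 1 A + diff 1 B := by
      intro A B; simp only [diff, map_add]; ring
    by_cases ht0 : t = 0
    · refine ⟨P₁, ?_⟩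
      ext N
      by_cases hN : N = 0
      · subst hN; rw [ht0] at h2; exact h2
      · rw [coeff_eq_zero_of_natDegree_lt (by omega), coeff_eq_zero_of_natDegree_lt (by omega)]
    have h4 : (Q - diff 1 P₁).natDegree < t := by
      have h5 : (Q - diff 1 P₁).natDegree ≤ t - 1 := by
        rw [natDegree_le_iff_coeff_eq_zero]
        intro N hN
        by_cases hNt : N = t
        · subst hNt; rw [coeff_sub, h2, sub_self]
        · rw [coeff_sub, coeff_eq_zero_of_natDegree_lt (by omega),
            coeff_eq_zero_of_natDegree_lt (by omega), sub_self]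
      omega
    obtain ⟨P₂, hP₂⟩ := ih _ h4 _ rfl
    exact ⟨P₁ + P₂, by rw [hlin, hP₂]; ring⟩

/-- From a recursion `h (m + 1) = h m + Q (m + 1)` for large `m`, `h` is eventually polynomial. -/
theorem exists_of_diff (h : ℕ → ℕ) (Q : ℚ[X]) (m₀ : ℕ)
    (hQ : ∀ m, m₀ ≤ m → ((h (m + 1) : ℕ) : ℚ) = h m + Q.eval ((m + 1 : ℕ) : ℚ)) :
    ∃ P : ℚ[X], diff 1 P = Q ∧ ∀ m, m₀ ≤ m → P.eval (m : ℚ) = h m := by
  obtain ⟨P, hP⟩ := exists_diff_one Q
  refine ⟨P + C ((h m₀ : ℚ) - P.eval (m₀ : ℚ)), ?_, ?_⟩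
  · rw [← hP]; simp only [diff, map_add, taylor_C]; ring
  · intro m hm
    induction m, hm using Nat.le_induction with
    | base => simp
    | succ m hm ih =>
      rw [hQ m hm, ← ih, ← hP, eval_diff]
      push_cast
      simp only [eval_add, eval_C, add_sub_cancel_right]
      ring

/-- Sum of polynomials with positive leading coefficients. -/
theorem add_pos {P Q : ℚ[X]} (hP : 0 < P.leadingCoeff) (hQ : 0 < Q.leadingCoeff) :
    (P + Q).natDegree = max P.natDegree Q.natDegree ∧ 0 < (P + Q).leadingCoeff := by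
  have key : ∀ P Q : ℚ[X], 0 < P.leadingCoeff → 0 < Q.leadingCoeff → P.natDegree ≤ Q.natDegree →
      (P + Q).natDegree = Q.natDegree ∧ 0 < (P + Q).leadingCoeff := by
    intro P Q hP hQ hle
    have h1 : 0 < (P + Q).coeff Q.natDegree := by
      rw [coeff_add]
      rcases hle.lt_or_eq with h | h
      · rw [coeff_eq_zero_of_natDegree_lt h, zero_add]; exact hQ
      · have h2 : 0 < P.coeff Q.natDegree := by rw [← h]; exact hP
        have h3 : 0 < Q.coeff Q.natDegree := hQ
        linarith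
    have h2 : (P + Q).natDegree = Q.natDegree :=
      le_antisymm ((natDegree_add_le _ _).trans (by simp [hle])) (le_natDegree_of_ne_zero h1.ne')
    exact ⟨h2, by rw [leadingCoeff, h2]; exact h1⟩
  rcases le_total P.natDegree Q.natDegree with h | h
  · rw [max_eq_right h]; exact key P Q hP hQ h
  · rw [max_eq_left h, add_comm P Q]; exact key Q P hQ hP h

theorem leadingCoeff_taylor' (r : ℚ) (P : ℚ[X]) : (taylor r P).leadingCoeff = P.leadingCoeff := by
  rw [leadingCoeff, natDegree_taylor, coeff_taylor_top P _ le_rfl]; rfl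

end K657.PolyDiff
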