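import Groth.Agent.ProjDeg.K657.HilbFun
import Groth.Agent.ProjDeg.K657.PolyDiff
import Groth.Agent.CalgC.DimFT
import Mathlib.RingTheory.KrullDimension.Regular
import Mathlib.RingTheory.KrullDimension.NonZeroDivisors
import Mathlib.RingTheory.FiniteType
import Mathlib.Algebra.MvPolynomial.Division

/-!
# Hilbert polynomials of homogeneous ideals: existence, degree = dimension - 1
-/

set_option autoImplicit false

universe u v

namespace K657.HilbDim

open MvPolynomial Module K657.HilbFun K657.PolyDiff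

attribute [local instance] MvPolynomial.gradedAlgebra

section General

variable {R : Type*} [CommRing R]

theorem ringKrullDim_sup_span_singleton (p : Ideal R) (f : R) :
    ringKrullDim (R ⧸ p ⊔ Ideal.span {f}) =
      ringKrullDim ((R ⧸ p) ⧸ Ideal.span {Ideal.Quotient.mk p f}) := by
  have h1 : (Ideal.span {f}).map (Ideal.Quotient.mk p) = Ideal.span {Ideal.Quotient.mk p f} := by
    rw [Ideal.map_span, Set.image_singleton]
  rw [← h1]
  exact ringKrullDim_eq_of_ringEquiv (DoubleQuot.quotQuotEquivQuotSup p (Ideal.span {f})).symm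

theorem ringKrullDim_sup_span_singleton_add_one_le (p : Ideal R) [p.IsPrime] {f : R} (hf : f ∉ p) :
    ringKrullDim (R ⧸ p ⊔ Ideal.span {f}) + 1 ≤ ringKrullDim (R ⧸ p) := by
  rw [ringKrullDim_sup_span_singleton]
  refine ringKrullDim_quotient_succ_le_of_nonZeroDivisor ?_
  rw [mem_nonZeroDivisors_iff_ne_zero]
  rwa [Ne, Ideal.Quotient.eq_zero_iff_mem]

theorem ringKrullDim_quotient_anti {I J : Ideal R} (h : I ≤ J) :
    ringKrullDim (R ⧸ J) ≤ ringKrullDim (R ⧸ I) :=
  ringKrullDim_le_of_surjective (Ideal.Quotient.factor h) (Ideal.Quotient.factor_surjective h)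

theorem ringKrullDim_quotient_add_one_le_of_lt {p q : Ideal R} [p.IsPrime] (h : p < q) :
    ringKrullDim (R ⧸ q) + 1 ≤ ringKrullDim (R ⧸ p) := by
  obtain ⟨f, hfq, hfp⟩ := Set.exists_of_ssubset h
  refine le_trans ?_ (ringKrullDim_sup_span_singleton_add_one_le p hfp)
  gcongr
  exact ringKrullDim_quotient_anti (sup_le h.le ((Ideal.span_singleton_le_iff_mem _).mpr hfq))

/-- If `V(I) = V(J) ∪ V(K)` then `dim R/I = max (dim R/J) (dim R/K)`. -/
theorem ringKrullDim_quotient_eq_max {I J K : Ideal R} (hJ : I ≤ J) (hK : I ≤ K)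
    (h : ∀ p : Ideal R, p.IsPrime → I ≤ p → J ≤ p ∨ K ≤ p) :
    ringKrullDim (R ⧸ I) = max (ringKrullDim (R ⧸ J)) (ringKrullDim (R ⧸ K)) := by
  refine le_antisymm ?_ (max_le (ringKrullDim_quotient_anti hJ) (ringKrullDim_quotient_anti hK))
  rw [ringKrullDim_quotient I, Order.krullDim]
  refine iSup_le fun l => ?_
  rcases h l.head.1.asIdeal l.head.1.isPrime l.head.2 with h1 | h1
  · refine le_max_of_le_left ?_
    rw [ringKrullDim_quotient J]
    have hl : ∀ i, (l i).1 ∈ PrimeSpectrum.zeroLocus (J : Set R) := fun i =>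
      h1.trans (show l.head.1.asIdeal ≤ (l i).1.asIdeal from l.monotone (Fin.zero_le i))
    let l' : LTSeries (PrimeSpectrum.zeroLocus (J : Set R)) :=
      { length := l.length
        toFun := fun i => ⟨(l i).1, hl i⟩
        step := fun i => l.step i }
    exact Order.LTSeries.length_le_krullDim l'
  · refine le_max_of_le_right ?_
    rw [ringKrullDim_quotient K]
    have hl : ∀ i, (l i).1 ∈ PrimeSpectrum.zeroLocus (K : Set R) := fun i =>
      h1.trans (show l.head.1.asIdeal ≤ (l i).1.asIdeal from l.monotone (Fin.zero_le i))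
    let l' : LTSeries (PrimeSpectrum.zeroLocus (K : Set R)) :=
      { length := l.length
        toFun := fun i => ⟨(l i).1, hl i⟩
        step := fun i => l.step i }
    exact Order.LTSeries.length_le_krullDim l'

end General

variable {k : Type u} [Field k] {σ : Type v} [Finite σ]

/-- The irrelevant maximal ideal. -/
noncomputable abbrev irr (k : Type u) (σ : Type v) [Field k] : Ideal (MvPolynomial σ k) :=
  RingHom.ker (constantCoeff : MvPolynomial σ k →+* k)

instance isMaximal_irr : (irr k σ).IsMaximal :=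
  RingHom.ker_isMaximal_of_surjective _ fun a => ⟨C a, constantCoeff_C σ a⟩

omit [Finite σ] in
theorem mem_irr {f : MvPolynomial σ k} : f ∈ irr k σ ↔ constantCoeff f = 0 := RingHom.mem_ker

omit [Finite σ] in
theorem mem_irr_of_isHomogeneous {F : MvPolynomial σ k} {a : ℕ} (hF : F.IsHomogeneous a)
    (ha : 0 < a) : F ∈ irr k σ := by
  rw [mem_irr, constantCoeff_eq]
  by_contra h
  have := hF h
  simp at this
  omega

omit [Finite σ] in
theorem le_irr {I : Ideal (MvPolynomial σ k)} (hI : I.IsHomogeneous (homogeneousSubmodule σ k))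
    (hne : I ≠ ⊤) : I ≤ irr k σ := by
  intro f hf
  rw [mem_irr]
  by_contra h
  apply hne
  have h1 := homogeneousComponent_mem_of_mem hI hf 0
  rw [homogeneousComponent_zero, ← constantCoeff_eq] at h1
  refine Ideal.eq_top_of_isUnit_mem _ h1 ?_
  exact (IsUnit.mk0 _ h).map C

omit [Finite σ] in
theorem irr_le_of_X_mem {I : Ideal (MvPolynomial σ k)} (h : ∀ i, (X i : MvPolynomial σ k) ∈ I) :
    irr k σ ≤ I := by
  intro f hf
  rw [mem_irr] at hf
  rw [f.as_sum]
  refine I.sum_mem fun d hd => ?_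
  have hd0 : d ≠ 0 := by
    rintro rfl
    rw [MvPolynomial.mem_support_iff] at hd
    exact hd hf
  obtain ⟨i, hi⟩ := Finsupp.ne_iff.mp hd0
  have h1 : (X i : MvPolynomial σ k) ∣ monomial d (coeff d f) := by
    rw [X_dvd_monomial]
    exact Or.inr hi
  exact Ideal.mem_of_dvd _ h1 (h i)

omit [Finite σ] in
theorem exists_X_notMem {I : Ideal (MvPolynomial σ k)}
    (hI : I.IsHomogeneous (homogeneousSubmodule σ k)) (hne : I ≠ ⊤) (h : I ≠ irr k σ) :
    ∃ i, (X i : MvPolynomial σ k) ∉ I := by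
  by_contra hcon
  push Not at hcon
  exact h (le_antisymm (le_irr hI hne) (irr_le_of_X_mem hcon))

omit [Finite σ] in
theorem isHomogeneous_irr : (irr k σ).IsHomogeneous (homogeneousSubmodule σ k) := by
  have h : irr k σ = Ideal.span (Set.range (X : σ → MvPolynomial σ k)) := by
    refine le_antisymm (irr_le_of_X_mem fun i => Ideal.subset_span ⟨i, rfl⟩) ?_
    rw [Ideal.span_le]
    rintro _ ⟨i, rfl⟩
    exact mem_irr_of_isHomogeneous (isHomogeneous_X k i) one_pos
  rw [h]
  apply Ideal.homogeneous_span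
  rintro _ ⟨i, rfl⟩
  exact ⟨1, isHomogeneous_X k i⟩

omit [Finite σ] in
theorem col_eq_self {p : Ideal (MvPolynomial σ k)} [hp : p.IsPrime] {f : MvPolynomial σ k}
    (hf : f ∉ p) : col p f = p := by
  refine le_antisymm ?_ (le_col p f)
  intro x hx
  rw [mem_col] at hx
  exact (hp.mem_or_mem hx).resolve_left hf

instance (p : Ideal (MvPolynomial σ k)) : Algebra.FiniteType k (MvPolynomial σ k ⧸ p) :=
  Algebra.FiniteType.of_surjective (Ideal.Quotient.mkₐ k p) (Ideal.Quotient.mkₐ_surjective k p)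

/-- Dimension of a hypersurface section of a homogeneous prime. -/
theorem ringKrullDim_sup_span_singleton_add_one {p : Ideal (MvPolynomial σ k)} [p.IsPrime]
    (hp : p.IsHomogeneous (homogeneousSubmodule σ k)) {f : MvPolynomial σ k} {d : ℕ}
    (hf : f.IsHomogeneous d) (hd : 0 < d) (hfp : f ∉ p) :
    ringKrullDim (MvPolynomial σ k ⧸ p ⊔ Ideal.span {f}) + 1 =
      ringKrullDim (MvPolynomial σ k ⧸ p) := by
  rw [ringKrullDim_sup_span_singleton]
  have hpi : p ≤ irr k σ := le_irr hp (Ideal.IsPrime.ne_top inferInstance)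
  have hm : ((irr k σ).map (Ideal.Quotient.mk p)).IsMaximal :=
    Ideal.IsMaximal.map_of_surjective_of_ker_le Ideal.Quotient.mk_surjective
      (by rw [Ideal.mk_ker]; exact hpi)
  refine ringKrullDim_quotient_add_one_of_mem_nonZeroDivisors ?_
    (p := (irr k σ).map (Ideal.Quotient.mk p)) ?_ ?_
  · rw [mem_nonZeroDivisors_iff_ne_zero]
    rwa [Ne, Ideal.Quotient.eq_zero_iff_mem]
  · exact Groth.Agent.CalgC.DimFT.height_eq_ringKrullDim_of_isMaximal k _ _
  · exact Ideal.mem_map_of_mem _ (mem_irr_of_isHomogeneous hf hd)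

/-- Equidimensionality of hypersurface sections of a prime. -/
theorem ringKrullDim_minimalPrimes_add_one {p : Ideal (MvPolynomial σ k)} [p.IsPrime]
    {f : MvPolynomial σ k} (hfp : f ∉ p) {q : Ideal (MvPolynomial σ k)}
    (hq : q ∈ (p ⊔ Ideal.span {f}).minimalPrimes) :
    ringKrullDim (MvPolynomial σ k ⧸ q) + 1 = ringKrullDim (MvPolynomial σ k ⧸ p) := by
  have hqp : q.IsPrime := hq.1.1
  have hpq : p ≤ q := le_sup_left.trans hq.1.2
  set π := Ideal.Quotient.mk p with hπ
  have hπs : Function.Surjective π := Ideal.Quotient.mk_surjective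
  have hker : RingHom.ker π = p := Ideal.mk_ker
  have hq' : (q.map π).IsPrime :=
    Ideal.map_isPrime_of_surjective hπs (by rw [hker]; exact hpq)
  have hcomap : (q.map π).comap π = q := by
    rw [Ideal.comap_map_of_surjective' _ hπs, hker, sup_eq_left]
    exact hpq
  have hmin : q.map π ∈ (Ideal.span {π f}).minimalPrimes := by
    refine ⟨⟨hq', ?_⟩, ?_⟩
    · rw [Ideal.span_singleton_le_iff_mem]
      exact Ideal.mem_map_of_mem _ (hq.1.2 (Submodule.mem_sup_right
        (Ideal.mem_span_singleton_self f)))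
    · rintro J ⟨hJ, hJf⟩ hJq
      have h1 : q ≤ J.comap π := by
        refine hq.2 ⟨hJ.comap π, ?_⟩ ?_
        · refine sup_le ?_ ?_
          · exact hker.symm.le.trans (Ideal.comap_mono bot_le)
          · rw [Ideal.span_singleton_le_iff_mem, Ideal.mem_comap]
            exact hJf (Ideal.mem_span_singleton_self _)
        · rw [← hcomap]; exact Ideal.comap_mono hJq
      exact Ideal.map_le_iff_le_comap.mpr h1
  have hle : (q.map π).height ≤ 1 :=
    Ideal.height_le_one_of_isPrincipal_of_mem_minimalPrimes _ _ hmin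
  have hne : q.map π ≠ ⊥ := by
    intro h
    have h1 : π f ∈ q.map π := Ideal.mem_map_of_mem _ (hq.1.2 (Submodule.mem_sup_right
        (Ideal.mem_span_singleton_self f)))
    rw [h, Ideal.mem_bot, hπ, Ideal.Quotient.eq_zero_iff_mem] at h1
    exact hfp h1
  have hht : (q.map π).height = 1 := by
    refine le_antisymm hle ?_
    rw [Order.one_le_iff_ne_zero]
    intro h
    exact hne (Ideal.height_eq_zero_iff_eq_bot.mp h)
  have h1 := Groth.Agent.CalgC.DimFT.ringKrullDim_quotient_add_one_of_height_one k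
    (MvPolynomial σ k ⧸ p) (q.map π) hht
  rw [← h1]
  congr 1
  have h2 : ringKrullDim ((MvPolynomial σ k ⧸ p) ⧸ q.map π) =
      ringKrullDim (MvPolynomial σ k ⧸ p ⊔ q) :=
    ringKrullDim_eq_of_ringEquiv (DoubleQuot.quotQuotEquivQuotSup p q)
  rw [h2, sup_eq_right.mpr hpq]

/-- `P` is the Hilbert polynomial of `R / I`. -/
def IsHilb (I : Ideal (MvPolynomial σ k)) (P : Polynomial ℚ) : Prop :=
  ∃ m₀ : ℕ, ∀ m : ℕ, m₀ ≤ m → P.eval (m : ℚ) = hF I m

omit [Finite σ] in
theorem IsHilb.unique {I : Ideal (MvPolynomial σ k)} {P Q : Polynomial ℚ} (hP : IsHilb I P)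
    (hQ : IsHilb I Q) : P = Q := by
  obtain ⟨m₁, h1⟩ := hP
  obtain ⟨m₂, h2⟩ := hQ
  refine eq_of_eventually (max m₁ m₂) fun m hm => ?_
  rw [h1 m (le_of_max_le_left hm), h2 m (le_of_max_le_right hm)]

/-- Additivity of the Hilbert polynomial in the colon sequence. -/
theorem IsHilb.colon {I : Ideal (MvPolynomial σ k)}
    (hI : I.IsHomogeneous (homogeneousSubmodule σ k)) {g : MvPolynomial σ k} {e : ℕ}
    (hg : g.IsHomogeneous e) {P₁ P₂ : Polynomial ℚ} (h1 : IsHilb (col I g) P₁)
    (h2 : IsHilb (I ⊔ Ideal.span {g}) P₂) :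
    IsHilb I (Polynomial.taylor (-(e : ℚ)) P₁ + P₂) := by
  obtain ⟨m₁, h1⟩ := h1
  obtain ⟨m₂, h2⟩ := h2
  refine ⟨max (m₁ + e) m₂, fun m hm => ?_⟩
  obtain ⟨l, rfl⟩ : ∃ l, m = e + l := ⟨m - e, by omega⟩
  rw [Polynomial.eval_add, Polynomial.taylor_eval, h2 _ (by omega)]
  have h3 : ((e + l : ℕ) : ℚ) + -(e : ℚ) = (l : ℚ) := by push_cast; ring
  rw [h3, h1 l (by omega)]
  have := hF_colon hI hg l
  exact_mod_cast this

/-- Hypersurface section of a prime. -/
theorem IsHilb.section {p : Ideal (MvPolynomial σ k)} [p.IsPrime]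
    (hp : p.IsHomogeneous (homogeneousSubmodule σ k)) {f : MvPolynomial σ k} {d : ℕ}
    (hf : f.IsHomogeneous d) (hfp : f ∉ p) {P Q : Polynomial ℚ} (h1 : IsHilb p P)
    (h2 : IsHilb (p ⊔ Ideal.span {f}) Q) : Q = diff d P := by
  have h3 := IsHilb.colon hp hf (P₁ := P) (by rw [col_eq_self hfp]; exact h1) h2
  have h4 := h1.unique h3
  rw [diff]
  nth_rw 1 [h4]
  ring

/-- The statement proved by induction. -/
def Good (I : Ideal (MvPolynomial σ k)) : Prop :=
  ∃ P : Polynomial ℚ, IsHilb I P ∧ ((P = 0 ∧ ringKrullDim (MvPolynomial σ k ⧸ I) ≤ 0) ∨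
    (0 < P.leadingCoeff ∧
      ringKrullDim (MvPolynomial σ k ⧸ I) = ((P.natDegree + 1 : ℕ) : WithBot ℕ∞)))

theorem good_top : Good (⊤ : Ideal (MvPolynomial σ k)) := by
  refine ⟨0, ⟨0, fun m _ => ?_⟩, Or.inl ⟨rfl, ?_⟩⟩
  · have : hF (⊤ : Ideal (MvPolynomial σ k)) m = 0 := by
      rw [hF, Submodule.restrictScalars_top, top_inf_eq, Nat.sub_self]
    rw [this]; simp
  · have : Subsingleton (MvPolynomial σ k ⧸ (⊤ : Ideal (MvPolynomial σ k))) :=
      Ideal.Quotient.subsingleton_iff.mpr rfl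
    rw [ringKrullDim_eq_bot_of_subsingleton]
    exact bot_le

omit [Finite σ] in
theorem hF_irr {m : ℕ} (hm : 0 < m) : hF (irr k σ) m = 0 := by
  rw [hF]
  have : (irr k σ).restrictScalars k ⊓ homogeneousSubmodule σ k m = homogeneousSubmodule σ k m := by
    rw [inf_eq_right]
    intro x hx
    exact mem_irr_of_isHomogeneous hx hm
  rw [this, Nat.sub_self]

theorem good_prime (p : Ideal (MvPolynomial σ k)) [p.IsPrime]
    (hp : p.IsHomogeneous (homogeneousSubmodule σ k))
    (ih : ∀ J : Ideal (MvPolynomial σ k), J.IsHomogeneous (homogeneousSubmodule σ k) → p < J →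
      Good J) : Good p := by
  by_cases hpi : p = irr k σ
  · refine ⟨0, ⟨1, fun m hm => ?_⟩, Or.inl ⟨rfl, ?_⟩⟩
    · rw [hpi, hF_irr hm]; simp
    · subst hpi
      have : (irr k σ).IsMaximal := isMaximal_irr
      let := Ideal.Quotient.field (irr k σ)
      rw [ringKrullDim_eq_zero_of_field]
  obtain ⟨i, hi⟩ := exists_X_notMem hp (Ideal.IsPrime.ne_top inferInstance) hpi
  have hXi : (X i : MvPolynomial σ k).IsHomogeneous 1 := isHomogeneous_X k i
  have hlt : p < p ⊔ Ideal.span {(X i : MvPolynomial σ k)} := by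
    refine lt_of_le_of_ne le_sup_left fun h => hi ?_
    rw [h]
    exact Submodule.mem_sup_right (Ideal.mem_span_singleton_self _)
  obtain ⟨Q, ⟨m₀, hQ⟩, hQ'⟩ := ih _ (isHomogeneous_sup hp hXi) hlt
  have hdim := ringKrullDim_sup_span_singleton_add_one hp hXi one_pos hi
  have hrec : ∀ m, m₀ ≤ m → ((hF p (m + 1) : ℕ) : ℚ) = hF p m + Q.eval ((m + 1 : ℕ) : ℚ) := by
    intro m hm
    rw [hQ (m + 1) (by omega)]
    have := hF_colon hp hXi m
    rw [col_eq_self hi, add_comm 1 m] at this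
    exact_mod_cast this.symm
  obtain ⟨P, hPQ, hP⟩ := exists_of_diff (hF p) Q m₀ hrec
  have hPh : IsHilb p P := ⟨m₀, hP⟩
  refine ⟨P, hPh, Or.inr ?_⟩
  -- the quotient `R/(p + X_i)` is non-trivial
  have hne : p ⊔ Ideal.span {(X i : MvPolynomial σ k)} ≠ ⊤ := by
    intro h
    have h1 : p ⊔ Ideal.span {(X i : MvPolynomial σ k)} ≤ irr k σ :=
      sup_le (le_irr hp (Ideal.IsPrime.ne_top inferInstance))
        ((Ideal.span_singleton_le_iff_mem _).mpr (mem_irr_of_isHomogeneous hXi one_pos))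
    rw [h] at h1
    exact (isMaximal_irr (k := k) (σ := σ)).ne_top (top_le_iff.mp h1)
  have hnt : Nontrivial (MvPolynomial σ k ⧸ p ⊔ Ideal.span {(X i : MvPolynomial σ k)}) :=
    Ideal.Quotient.nontrivial_iff.mpr hne
  rcases hQ' with ⟨hQ0, hQd⟩ | ⟨hQpos, hQd⟩
  · -- `P` is constant
    have hPd : P.natDegree = 0 := by
      by_contra h
      have := (natDegree_diff (d := 1) one_pos (P := P) (by omega)).2.2
      rw [hPQ] at this
      exact this hQ0
    have hQd' : ringKrullDim (MvPolynomial σ k ⧸ p ⊔ Ideal.span {(X i : MvPolynomial σ k)}) = 0 :=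
      le_antisymm hQd ringKrullDim_nonneg_of_nontrivial
    rw [hQd', zero_add] at hdim
    refine ⟨?_, by rw [← hdim, hPd]; rfl⟩
    -- all powers of `X i` are nonzero in `R/p`
    obtain ⟨c, rfl⟩ := Polynomial.natDegree_eq_zero.mp hPd
    rw [Polynomial.leadingCoeff_C]
    have h1 := hP m₀ le_rfl
    rw [Polynomial.eval_C] at h1
    rw [h1]
    have h2 : 0 < hF p m₀ := by
      rw [← finrank_V]
      have h3 : Ideal.Quotient.mk p (X i ^ m₀) ∈ V p m₀ :=
        mem_V.mpr ⟨X i ^ m₀, by simpa using hXi.pow m₀, rfl⟩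
      have h4 : Ideal.Quotient.mk p (X i ^ m₀) ≠ 0 := by
        rw [Ne, Ideal.Quotient.eq_zero_iff_mem]
        intro h
        exact hi (Ideal.IsPrime.mem_of_pow_mem inferInstance _ h)
      have : Nontrivial (V p m₀) := ⟨⟨⟨_, h3⟩, 0, fun h => h4 (congrArg Subtype.val h)⟩⟩
      exact Module.finrank_pos
    exact_mod_cast h2
  · have hPd : 1 ≤ P.natDegree := by
      by_contra h
      have h0 : P.natDegree = 0 := by omega
      rw [← hPQ, diff_eq_zero_of_natDegree 1 P h0] at hQpos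
      simp at hQpos
    have h1 := natDegree_diff (d := 1) one_pos hPd
    rw [hPQ] at h1
    refine ⟨?_, ?_⟩
    · rw [← leadingCoeff_diff_pos (d := 1) one_pos hPd, hPQ]; exact hQpos
    · rw [← hdim, hQd]
      rw [← h1.1]
      push_cast
      rfl

theorem good_step (I : Ideal (MvPolynomial σ k)) (g : MvPolynomial σ k) (e : ℕ)
    (hI : I.IsHomogeneous (homogeneousSubmodule σ k)) (hg : g.IsHomogeneous e)
    (h1 : Good (col I g)) (h2 : Good (I ⊔ Ideal.span {g})) : Good I := by
  obtain ⟨P₁, hP₁, h1⟩ := h1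
  obtain ⟨P₂, hP₂, h2⟩ := h2
  have hdim : ringKrullDim (MvPolynomial σ k ⧸ I) =
      max (ringKrullDim (MvPolynomial σ k ⧸ col I g))
        (ringKrullDim (MvPolynomial σ k ⧸ I ⊔ Ideal.span {g})) := by
    refine ringKrullDim_quotient_eq_max (le_col I g) le_sup_left ?_
    intro p hp hIp
    by_cases hgp : g ∈ p
    · exact Or.inr (sup_le hIp ((Ideal.span_singleton_le_iff_mem _).mpr hgp))
    · refine Or.inl fun x hx => ?_
      exact (hp.mem_or_mem (hIp (mem_col.mp hx))).resolve_left hgp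
  refine ⟨_, IsHilb.colon hI hg hP₁ hP₂, ?_⟩
  rw [hdim]
  rcases h1 with ⟨rfl, hd1⟩ | ⟨hl1, hd1⟩ <;> rcases h2 with ⟨rfl, hd2⟩ | ⟨hl2, hd2⟩
  · exact Or.inl ⟨by simp, max_le hd1 hd2⟩
  · refine Or.inr ?_
    rw [map_zero, zero_add]
    refine ⟨hl2, ?_⟩
    rw [max_eq_right, hd2]
    rw [hd2]
    exact hd1.trans (by exact_mod_cast Nat.zero_le _)
  · refine Or.inr ?_
    rw [add_zero]
    refine ⟨by rw [leadingCoeff_taylor']; exact hl1, ?_⟩
    rw [max_eq_left, hd1, Polynomial.natDegree_taylor]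
    rw [hd1]
    exact hd2.trans (by exact_mod_cast Nat.zero_le _)
  · refine Or.inr ?_
    have h3 := add_pos (P := Polynomial.taylor (-(e : ℚ)) P₁) (Q := P₂)
      (by rw [leadingCoeff_taylor']; exact hl1) hl2
    refine ⟨h3.2, ?_⟩
    rw [h3.1, hd1, hd2, Polynomial.natDegree_taylor]
    rcases le_total P₁.natDegree P₂.natDegree with h | h
    · rw [max_eq_right h, max_eq_right]
      exact_mod_cast Nat.add_le_add_right h 1
    · rw [max_eq_left h, max_eq_left]
      exact_mod_cast Nat.add_le_add_right h 1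

/-- Every homogeneous ideal has a Hilbert polynomial, of degree one less than the dimension. -/
theorem good (I : Ideal (MvPolynomial σ k)) (hI : I.IsHomogeneous (homogeneousSubmodule σ k)) :
    Good I :=
  K657.HilbFun.induction (C := Good) good_top (fun p hp hph ih => good_prime p hph ih)
    (fun I g e hI hg _ _ h1 h2 => good_step I g e hI hg h1 h2) I hI

theorem ringKrullDim_eq_of_isHilb {I : Ideal (MvPolynomial σ k)}
    (hI : I.IsHomogeneous (homogeneousSubmodule σ k)) {P : Polynomial ℚ} (hP : IsHilb I P)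
    (hP0 : P ≠ 0) :
    ringKrullDim (MvPolynomial σ k ⧸ I) = ((P.natDegree + 1 : ℕ) : WithBot ℕ∞) ∧
      0 < P.leadingCoeff := by
  obtain ⟨P', hP', h⟩ := good I hI
  obtain rfl := hP.unique hP'
  rcases h with ⟨h, -⟩ | ⟨h1, h2⟩
  · exact absurd h hP0
  · exact ⟨h2, h1⟩

theorem ringKrullDim_le_zero_of_isHilb_zero {I : Ideal (MvPolynomial σ k)}
    (hI : I.IsHomogeneous (homogeneousSubmodule σ k)) (hP : IsHilb I (0 : Polynomial ℚ)) :
    ringKrullDim (MvPolynomial σ k ⧸ I) ≤ 0 := by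
  obtain ⟨P', hP', h⟩ := good I hI
  obtain rfl := hP.unique hP'
  rcases h with ⟨-, h⟩ | ⟨h1, h2⟩
  · exact h
  · simp at h1

end K657.HilbDim
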