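import Groth.Agent.ProjDeg.K657.NormalSec
import Groth.Agent.ProjDeg.K657.HilbDim

/-!
# Global sections of `O(d)` on projective space over a field
-/

set_option autoImplicit false

universe u

namespace K657.TwistNeg

open CategoryTheory CategoryTheory.Limits AlgebraicGeometry TopologicalSpace Opposite TopCat
open Twist K657.NormalSec

variable {R A : Type u} [CommRing R] [CommRing A] [Algebra R A] (𝒜 : ℕ → Submodule R A) [GradedAlgebra 𝒜]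

theorem exists_global_frac [IsDomain A] (h1 : 𝒜 1 ≠ ⊥) (d : ℤ) (f : sectN (𝒜 := 𝒜) d (op ⊤)) :
    ∃ (i₀ j₀ : ℕ) (a₀ s₀ : A) (_ : a₀ ∈ 𝒜 i₀) (_ : s₀ ∈ 𝒜 j₀) (_ : s₀ ≠ 0),
      ((i₀ : ℤ) = j₀ + d ∨ a₀ = 0) ∧
      ∀ x : ProjectiveSpectrum 𝒜, ∃ (s a : A) (hs : s ∉ x.asHomogeneousIdeal),
        a₀ * s = a * s₀ ∧ (f.1 ⟨x, trivial⟩).1 = Localization.mk a ⟨s, hs⟩ := by
  have cross : ∀ {a b s t : A} (hs : s ∉ (gen 𝒜 h1).asHomogeneousIdeal)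
      (ht : t ∉ (gen 𝒜 h1).asHomogeneousIdeal),
      (Localization.mk a ⟨s, hs⟩ : Loc 𝒜 (gen 𝒜 h1)) = Localization.mk b ⟨t, ht⟩ →
      a * t = b * s := by
    intro a b s t hs ht h
    rw [Localization.mk_eq_mk_iff, Localization.r_iff_exists] at h
    obtain ⟨c, hc⟩ := h
    have hc0 : (c : A) ≠ 0 := (notMem_gen 𝒜 h1).mp c.2
    have := mul_left_cancel₀ hc0 hc
    rw [mul_comm a t, mul_comm b s]
    exact this
  have hrep : ∀ x : ProjectiveSpectrum 𝒜, ∃ (V : Opens (ProjectiveSpectrum.top 𝒜)) (_ : x ∈ V)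
      (i j : ℕ) (a s : A) (_ : a ∈ 𝒜 i) (_ : s ∈ 𝒜 j)
      (nin : ∀ y : ProjectiveSpectrum 𝒜, y ∈ V → s ∉ y.asHomogeneousIdeal),
      ((i : ℤ) = j + d ∨ a = 0) ∧ ∀ (y : ProjectiveSpectrum 𝒜) (hy : y ∈ V),
        (f.1 ⟨y, trivial⟩).1 = Localization.mk a ⟨s, nin y hy⟩ := by
    intro x
    obtain ⟨V, hxV, iV, i, j, a, s, nin, hij, hval⟩ := f.2 ⟨x, trivial⟩
    exact ⟨V, hxV, i, j, a.1, s.1, a.2, s.2, fun y hy => nin ⟨y, hy⟩, hij,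
      fun y hy => hval ⟨y, hy⟩⟩
  obtain ⟨V₀, hV₀, i₀, j₀, a₀, s₀, ha₀, hs₀, nin₀, hij₀, hval₀⟩ := hrep (gen 𝒜 h1)
  have hs0 : s₀ ≠ 0 := (notMem_gen 𝒜 h1).mp (nin₀ _ hV₀)
  refine ⟨i₀, j₀, a₀, s₀, ha₀, hs₀, hs0, hij₀, fun x => ?_⟩
  obtain ⟨V, hV, i, j, a, s, ha, hs, nin, hij, hval⟩ := hrep x
  have hg := gen_mem 𝒜 h1 V x hV
  refine ⟨s, a, nin x hV, ?_, hval x hV⟩
  refine cross (nin₀ _ hV₀) (nin _ hg) ?_
  rw [← hval _ hg, ← hval₀ _ hV₀]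

theorem eq_zero_of_key [IsDomain A] (h1 : 𝒜 1 ≠ ⊥) (d : ℤ) 
    (hkey : ∀ (i₀ j₀ : ℕ) (a₀ s₀ : A), a₀ ∈ 𝒜 i₀ → s₀ ∈ 𝒜 j₀ → (i₀ : ℤ) = j₀ + d → s₀ ≠ 0 → 
      (∀ x : ProjectiveSpectrum 𝒜, ∃ s a : A, s ∉ x.asHomogeneousIdeal ∧ a₀ * s = a * s₀) → a₀ = 0)
    (f : sectN (𝒜 := 𝒜) d (op ⊤)) : f = 0 := by
  obtain ⟨i₀, j₀, a₀, s₀, ha₀, hs₀, hs0, hij₀, hJ⟩ := exists_global_frac 𝒜 h1 d f
  have ha0 : a₀ = 0 := by
    rcases hij₀ with h | h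
    · refine hkey i₀ j₀ a₀ s₀ ha₀ hs₀ h hs0 fun x => ?_
      obtain ⟨s, a, hs, h2, -⟩ := hJ x
      exact ⟨s, a, hs, h2⟩
    · exact h
  apply Subtype.ext
  funext x
  apply Subtype.ext
  obtain ⟨s, a, hs, h2, h3⟩ := hJ x.1
  rw [ha0, zero_mul] at h2
  have h4 : a = 0 := by
    rcases mul_eq_zero.1 h2.symm with h | h
    · exact h
    · exact absurd h hs0
  refine h3.trans ?_
  subst h4
  exact Localization.mk_zero _

variable {k : Type u} [Field k] {n : ℕ}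

open MvPolynomial

attribute [local instance] MvPolynomial.gradedAlgebra

theorem hgen (i : ℕ) : homogeneousSubmodule (Fin (n + 1)) k 1 * homogeneousSubmodule (Fin (n + 1)) k i =
    homogeneousSubmodule (Fin (n + 1)) k (i + 1) := by
  rw [← homogeneousSubmodule_one_pow (σ := Fin (n + 1)) (R := k) (n := i),
    ← homogeneousSubmodule_one_pow (σ := Fin (n + 1)) (R := k) (n := i + 1), pow_succ']

theorem h1 : homogeneousSubmodule (Fin (n + 1)) k 1 ≠ ⊥ := by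
  intro h
  have h2 : (X 0 : MvPolynomial (Fin (n + 1)) k) ∈ homogeneousSubmodule (Fin (n + 1)) k 1 :=
    isHomogeneous_X _ _
  rw [h, Submodule.mem_bot] at h2
  exact X_ne_zero _ h2

theorem key_neg (hn : 0 < n) (e : ℕ) (he : 0 < e) {i₀ j₀ : ℕ} {a₀ s₀ : MvPolynomial (Fin (n + 1)) k}
    (ha₀ : a₀ ∈ homogeneousSubmodule (Fin (n + 1)) k i₀) (hs₀ : s₀ ∈ homogeneousSubmodule (Fin (n + 1)) k j₀)
    (hij : i₀ + e = j₀) (hs0 : s₀ ≠ 0)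
    (hJ : ∀ x : ProjectiveSpectrum (homogeneousSubmodule (Fin (n + 1)) k), 
      ∃ s a : MvPolynomial (Fin (n + 1)) k, s ∉ x.asHomogeneousIdeal ∧ a₀ * s = a * s₀) : a₀ = 0 := by
  by_contra ha0
  have key' : ∀ i : Fin (n + 1), ∃ b : k, X i ^ e * a₀ = C b * s₀ := by
    intro i
    obtain ⟨b, hb, hb'⟩ := key (homogeneousSubmodule (Fin (n + 1)) k) hgen h1 inferInstance 0
      (i₀ := e + i₀) (j₀ := j₀) (a₀ := X i ^ e * a₀) (s₀ := s₀)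
      (((isHomogeneous_X_pow i e)).mul ha₀) hs₀ (by omega) hs0 (fun x => by
        obtain ⟨s, a, hs, h2⟩ := hJ x
        exact ⟨s, X i ^ e * a, hs, by rw [mul_assoc, h2, mul_assoc]⟩)
    rw [mem_homogeneousSubmodule] at hb
    have h3 : b = C (constantCoeff b) := by
      have h4 := hb.totalDegree_le
      exact (totalDegree_eq_zero_iff_eq_C.1 (Nat.le_zero.1 h4))
    exact ⟨constantCoeff b, by rw [← h3]; exact hb'⟩
  obtain ⟨b, hb⟩ := key' 0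
  obtain ⟨b', hb'⟩ := key' ⟨1, by omega⟩
  have h5 : (C b' * X 0 ^ e : MvPolynomial (Fin (n + 1)) k) = C b * X ⟨1, by omega⟩ ^ e := by
    apply mul_right_cancel₀ ha0
    rw [mul_assoc, hb, mul_assoc, hb']
    ring
  have h6 : b = 0 := by
    have := congrArg (eval (Pi.single ⟨1, by omega⟩ 1 : Fin (n + 1) → k)) h5
    simpa [he.ne'] using this.symm
  rw [h6, C_0, zero_mul] at hb
  exact (mul_ne_zero (pow_ne_zero _ (X_ne_zero _)) ha0) hb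

/-- There are no nonzero global sections of `O(d)`, `d < 0`, on `P^n`, `n > 0`. -/
theorem eq_zero (hn : 0 < n) (d : ℤ) (hd : d < 0)
    (f : sectN (𝒜 := homogeneousSubmodule (Fin (n + 1)) k) d (op ⊤)) : f = 0 :=
  eq_zero_of_key _ h1 d (fun i₀ j₀ a₀ s₀ ha₀ hs₀ hij hs0 hJ =>
    key_neg hn (j₀ - i₀) (by omega) ha₀ hs₀ (by omega) hs0 hJ) f

end K657.TwistNeg
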