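import Groth.Agent.ProjDeg.K657.TopDim
import Groth.Agent.ProjDeg.K657.TwistNeg
import Groth.Agent.Sga3C.DimTop
import Groth.Agent.Fga.DimLt

/-!
# Dimension and irreducibility of `P^n`; finite morphisms to `P^n` from schemes of dimension `n`
-/

set_option autoImplicit false

universe u

namespace K657.PnDim

open CategoryTheory CategoryTheory.Limits AlgebraicGeometry TopologicalSpace
open MvPolynomial K657.HilbDim

attribute [local instance] MvPolynomial.gradedAlgebra

variable {k : Type u} [Field k] {n : ℕ}

theorem topologicalKrullDim_eq (k : Type u) [Field k] (n : ℕ) :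
    topologicalKrullDim (Proj (homogeneousSubmodule (Fin (n + 1)) k)) = (n : WithBot ℕ∞) := by
  have h1 := TopDim.ringKrullDim_eq (k := k) (σ := Fin (n + 1)) ⊥ (by
    exact (⊥ : HomogeneousIdeal (homogeneousSubmodule (Fin (n + 1)) k)).isHomogeneous) (by
    intro h
    have h2 : (X 0 : MvPolynomial (Fin (n + 1)) k) ∈ (⊥ : Ideal (MvPolynomial (Fin (n + 1)) k)) :=
      h (mem_irr_of_isHomogeneous (isHomogeneous_X k 0) one_pos)
    exact X_ne_zero _ ((Ideal.mem_bot).1 h2))
  rw [ringKrullDim_eq_of_ringEquiv (RingEquiv.quotientBot (MvPolynomial (Fin (n + 1)) k)),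
    MvPolynomial.ringKrullDim_of_isNoetherianRing, ringKrullDim_eq_zero_of_field, zero_add] at h1
  have h3 : ProjectiveSpectrum.zeroLocus (homogeneousSubmodule (Fin (n + 1)) k)
      ((⊥ : Ideal (MvPolynomial (Fin (n + 1)) k)) : Set (MvPolynomial (Fin (n + 1)) k)) = Set.univ := by
    ext x
    simp
  rw [h3, Nat.card_eq_fintype_card, Fintype.card_fin, Nat.cast_succ] at h1
  have h4 := ENat.WithBot.add_one_cancel.1 h1
  have h5 : topologicalKrullDim (Set.univ : Set (ProjectiveSpectrum (homogeneousSubmodule (Fin (n + 1)) k))) =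
      topologicalKrullDim (ProjectiveSpectrum (homogeneousSubmodule (Fin (n + 1)) k)) :=
    IsHomeomorph.topologicalKrullDim_eq _ (Homeomorph.Set.univ _).isHomeomorph
  exact h5.symm.trans h4.symm

instance irreducibleSpace : IrreducibleSpace (Proj (homogeneousSubmodule (Fin (n + 1)) k)) := by
  let g : Proj (homogeneousSubmodule (Fin (n + 1)) k) := NormalSec.gen _ TwistNeg.h1
  have h : closure ({g} : Set (Proj (homogeneousSubmodule (Fin (n + 1)) k))) = Set.univ := by
    rw [Set.eq_univ_iff_forall]
    intro x
    rw [mem_closure_iff]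
    intro U hU hx
    exact ⟨g, NormalSec.gen_mem _ TwistNeg.h1 ⟨U, hU⟩ x hx, rfl⟩
  have h2 : IsIrreducible (Set.univ : Set (Proj (homogeneousSubmodule (Fin (n + 1)) k))) := by
    rw [← h]
    exact isIrreducible_singleton.closure
  exact (irreducibleSpace_def _).2 h2

/-- A finite morphism to `P^n` from a scheme of dimension at least `n` is surjective. -/
theorem surjective_of_isFinite {Y : Scheme.{u}} (r : Y ⟶ Proj (homogeneousSubmodule (Fin (n + 1)) k))
    [IsFinite r] (hdim : (n : WithBot ℕ∞) ≤ topologicalKrullDim Y) : Function.Surjective r := by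
  by_contra hcon
  have hclosed : IsClosed (Set.range r) := r.isClosedMap.isClosed_range
  have hne : Set.range r ≠ Set.univ := fun h => hcon (Set.range_eq_univ.1 h)
  have q1 : QuasiSober (Set.range r) := hclosed.isClosedEmbedding_subtypeVal.quasiSober
  have h1 : topologicalKrullDim Y = topologicalKrullDim (Set.range r) := by
    refine Groth.Agent.Sga3C.DimTop.topologicalKrullDim_eq_of_closedMap (Set.rangeFactorization r)
      (r.continuous.subtype_mk _) ?_ Set.rangeFactorization_surjective ?_
    · intro A hA
      refine isClosed_induced_iff.mpr ⟨r '' A, r.isClosedMap _ hA, ?_⟩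
      ext ⟨y, hy⟩
      constructor
      · rintro ⟨z, hz1, rfl⟩
        exact ⟨z, hz1, rfl⟩
      · rintro ⟨z, hz1, hz3⟩
        exact ⟨z, hz1, congrArg Subtype.val hz3⟩
    · intro a b hab he
      exact Groth.Agent.Sga3C.DimTop.eq_of_specializes_of_isIntegralHom r a b hab (congrArg Subtype.val he)
  rw [h1] at hdim
  have h2 := Groth.Agent.Fga.DimLt.exists_ltSeries_succ hclosed hne hdim
  rw [topologicalKrullDim_eq k n] at h2
  have h3 : n + 1 ≤ n := by exact_mod_cast h2
  omega

end K657.PnDim
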