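import Mathlib.RingTheory.MvPolynomial.Homogeneous
import Mathlib.RingTheory.GradedAlgebra.Homogeneous.Ideal
import Mathlib.RingTheory.GradedAlgebra.Radical
import Mathlib.LinearAlgebra.FiniteDimensional.Lemmas
import Mathlib.RingTheory.Noetherian.Basic
import Mathlib.RingTheory.Polynomial.Basic
import Mathlib.RingTheory.Ideal.Quotient.Operations

/-!
# Hilbert functions of homogeneous ideals in a polynomial ring over a field

`hF I m = dim R_m - dim (I ∩ R_m)`; the colon sequence `hF_colon`.
-/

set_option autoImplicit false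

universe u v

namespace K657.HilbFun

open MvPolynomial Module

attribute [local instance] MvPolynomial.gradedAlgebra

variable {k : Type u} [Field k] {σ : Type v} [Finite σ]

instance finite_homogeneousSubmodule (d : ℕ) : Module.Finite k (homogeneousSubmodule σ k d) :=
  Module.Finite.iff_fg.mpr (homogeneousSubmodule_fg σ k d)

/-- rank-nullity for the restriction to a finite dimensional subspace -/
theorem finrank_map_add {M N : Type*} [AddCommGroup M] [Module k M] [AddCommGroup N] [Module k N]
    (f : M →ₗ[k] N) (p : Submodule k M) [Module.Finite k p] :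
    finrank k (p.map f) + finrank k ↥(LinearMap.ker f ⊓ p) = finrank k p := by
  have h1 := LinearMap.finrank_range_add_finrank_ker (f.domRestrict p)
  rw [LinearMap.range_domRestrict] at h1
  have h3 : (LinearMap.ker (f.domRestrict p)).map p.subtype = LinearMap.ker f ⊓ p := by
    ext x
    simp only [Submodule.mem_map, LinearMap.mem_ker, Submodule.subtype_apply, Subtype.exists,
      exists_and_right, exists_eq_right, Submodule.mem_inf, LinearMap.domRestrict_apply]
    exact ⟨fun ⟨a, b⟩ => ⟨b, a⟩, fun ⟨a, b⟩ => ⟨b, a⟩⟩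
  rw [← h3, (LinearEquiv.finrank_eq (Submodule.equivMapOfInjective _
      (Submodule.injective_subtype p) _)).symm]
  exact h1

/-- The Hilbert function of `R / I`. -/
noncomputable def hF (I : Ideal (MvPolynomial σ k)) (m : ℕ) : ℕ :=
  finrank k (homogeneousSubmodule σ k m) -
    finrank k ↥(I.restrictScalars k ⊓ homogeneousSubmodule σ k m)

theorem finrank_inf_le (I : Ideal (MvPolynomial σ k)) (m : ℕ) :
    finrank k ↥(I.restrictScalars k ⊓ homogeneousSubmodule σ k m) ≤
      finrank k (homogeneousSubmodule σ k m) :=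
  Submodule.finrank_mono inf_le_right

theorem hF_add (I : Ideal (MvPolynomial σ k)) (m : ℕ) :
    hF I m + finrank k ↥(I.restrictScalars k ⊓ homogeneousSubmodule σ k m) =
      finrank k (homogeneousSubmodule σ k m) :=
  Nat.sub_add_cancel (finrank_inf_le I m)

theorem cast_hF (I : Ideal (MvPolynomial σ k)) (m : ℕ) :
    (hF I m : ℚ) = (finrank k (homogeneousSubmodule σ k m) : ℚ) -
      finrank k ↥(I.restrictScalars k ⊓ homogeneousSubmodule σ k m) := by
  rw [hF, Nat.cast_sub (finrank_inf_le I m)]

/-- The degree `m` piece of `R / I`. -/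
noncomputable def V (I : Ideal (MvPolynomial σ k)) (m : ℕ) :
    Submodule k (MvPolynomial σ k ⧸ I) :=
  (homogeneousSubmodule σ k m).map (Ideal.Quotient.mkₐ k I).toLinearMap

instance (I : Ideal (MvPolynomial σ k)) (m : ℕ) : Module.Finite k (V I m) := by
  unfold V; infer_instance

omit [Finite σ] in
theorem mem_V {I : Ideal (MvPolynomial σ k)} {m : ℕ} {x : MvPolynomial σ k ⧸ I} :
    x ∈ V I m ↔ ∃ p : MvPolynomial σ k, p.IsHomogeneous m ∧ Ideal.Quotient.mk I p = x := by
  rw [V, Submodule.mem_map]
  rfl

theorem finrank_V (I : Ideal (MvPolynomial σ k)) (m : ℕ) : finrank k (V I m) = hF I m := by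
  have h1 := finrank_map_add (Ideal.Quotient.mkₐ k I).toLinearMap (homogeneousSubmodule σ k m)
  have h2 : LinearMap.ker (Ideal.Quotient.mkₐ k I).toLinearMap = I.restrictScalars k := by
    ext x
    simp only [LinearMap.mem_ker, AlgHom.toLinearMap_apply, Ideal.Quotient.mkₐ_eq_mk,
      Submodule.restrictScalars_mem]
    exact Ideal.Quotient.eq_zero_iff_mem
  rw [h2] at h1
  have h4 := hF_add I m
  have h5 : finrank k (V I m) + finrank k ↥(I.restrictScalars k ⊓ homogeneousSubmodule σ k m) =
    finrank k (homogeneousSubmodule σ k m) := h1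
  omega

omit [Finite σ] in
/-- `homogeneousComponent (a + e) (F * f) = F * homogeneousComponent e f` for `F` homogeneous of
degree `a`. -/
theorem homogeneousComponent_mul_of_isHomogeneous {F f : MvPolynomial σ k} {a : ℕ}
    (hF : F.IsHomogeneous a) (e : ℕ) :
    homogeneousComponent (a + e) (F * f) = F * homogeneousComponent e f := by
  classical
  conv_lhs => rw [← sum_homogeneousComponent f, Finset.mul_sum, map_sum]
  have h1 : ∀ i, homogeneousComponent (a + e) (F * homogeneousComponent i f) =
      if i = e then F * homogeneousComponent e f else 0 := by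
    intro i
    rw [homogeneousComponent_of_mem ((mem_homogeneousSubmodule _ _).mpr
      (hF.mul (homogeneousComponent_isHomogeneous i f)))]
    by_cases h : i = e
    · subst h; simp
    · rw [if_neg (by omega), if_neg h]
  simp_rw [h1]
  rw [Finset.sum_ite_eq' ]
  split_ifs with h
  · rfl
  · rw [Finset.mem_range, not_lt] at h
    rw [homogeneousComponent_eq_zero _ _ (by omega), mul_zero]

/-- The colon ideal `(I : g)`. -/
noncomputable def col (I : Ideal (MvPolynomial σ k)) (g : MvPolynomial σ k) : Ideal (MvPolynomial σ k) :=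
  Submodule.comap (LinearMap.mulLeft (MvPolynomial σ k) g) I

omit [Finite σ] in
theorem mem_col {I : Ideal (MvPolynomial σ k)} {g x : MvPolynomial σ k} :
    x ∈ col I g ↔ g * x ∈ I := Iff.rfl

omit [Finite σ] in
theorem le_col (I : Ideal (MvPolynomial σ k)) (g : MvPolynomial σ k) : I ≤ col I g :=
  fun _ hx => mem_col.mpr (I.mul_mem_left g hx)

omit [Finite σ] in
theorem isHomogeneous_col {I : Ideal (MvPolynomial σ k)}
    (hI : I.IsHomogeneous (homogeneousSubmodule σ k)) {g : MvPolynomial σ k} {e : ℕ}
    (hg : g.IsHomogeneous e) : (col I g).IsHomogeneous (homogeneousSubmodule σ k) := by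
  intro i x hx
  have h1 : homogeneousComponent (e + i) (g * x) ∈ I :=
    homogeneousComponent_mem_of_mem hI (mem_col.mp hx) _
  rw [homogeneousComponent_mul_of_isHomogeneous hg] at h1
  have h2 : ((DirectSum.decompose (homogeneousSubmodule σ k) x) i : MvPolynomial σ k) =
    homogeneousComponent i x := decomposition.decompose'_apply x i
  rw [h2]
  exact mem_col.mpr h1

omit [Finite σ] in
theorem isHomogeneous_span_singleton {g : MvPolynomial σ k} {e : ℕ}
    (hg : g.IsHomogeneous e) :
    (Ideal.span {g} : Ideal (MvPolynomial σ k)).IsHomogeneous (homogeneousSubmodule σ k) := by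
  apply Ideal.homogeneous_span
  rintro _ rfl
  exact ⟨e, (mem_homogeneousSubmodule _ _).mpr hg⟩

omit [Finite σ] in
theorem isHomogeneous_sup {I : Ideal (MvPolynomial σ k)}
    (hI : I.IsHomogeneous (homogeneousSubmodule σ k)) {g : MvPolynomial σ k} {e : ℕ}
    (hg : g.IsHomogeneous e) :
    (I ⊔ Ideal.span {g}).IsHomogeneous (homogeneousSubmodule σ k) :=
  hI.sup (isHomogeneous_span_singleton hg)

/-- The colon sequence: `0 → R/(I:g) (-e) → R/I → R/(I+g) → 0`. -/
theorem hF_colon {I : Ideal (MvPolynomial σ k)}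
    (hI : I.IsHomogeneous (homogeneousSubmodule σ k)) {g : MvPolynomial σ k} {e : ℕ}
    (hg : g.IsHomogeneous e) (m : ℕ) :
    hF (col I g) m + hF (I ⊔ Ideal.span {g}) (e + m) = hF I (e + m) := by
  classical
  -- multiplication by `g`
  let ψ : MvPolynomial σ k →ₗ[k] (MvPolynomial σ k ⧸ I) :=
    (Ideal.Quotient.mkₐ k I).toLinearMap ∘ₗ LinearMap.mulLeft k g
  have hψ : ∀ x, ψ x = Ideal.Quotient.mk I (g * x) := fun x => rfl
  have h1 := finrank_map_add ψ (homogeneousSubmodule σ k m)
  have h2 : LinearMap.ker ψ = (col I g).restrictScalars k := by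
    ext x
    rw [LinearMap.mem_ker, hψ, Submodule.restrictScalars_mem, mem_col]
    exact Ideal.Quotient.eq_zero_iff_mem
  rw [h2] at h1
  have h3 := hF_add (col I g) m
  let θ : (MvPolynomial σ k ⧸ I) →ₗ[k] (MvPolynomial σ k ⧸ (I ⊔ Ideal.span {g})) :=
    (Ideal.Quotient.factorₐ k (le_sup_left : I ≤ I ⊔ Ideal.span {g})).toLinearMap
  have hθ : ∀ x, θ (Ideal.Quotient.mk I x) = Ideal.Quotient.mk _ x := fun x => rfl
  have h4 := finrank_map_add θ (V I (e + m))
  have h5 : (V I (e + m)).map θ = V (I ⊔ Ideal.span {g}) (e + m) := by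
    ext x
    rw [Submodule.mem_map]
    constructor
    · rintro ⟨y, hy, rfl⟩
      obtain ⟨p, hp, rfl⟩ := mem_V.mp hy
      exact mem_V.mpr ⟨p, hp, (hθ p).symm⟩
    · intro hx
      obtain ⟨p, hp, rfl⟩ := mem_V.mp hx
      exact ⟨_, mem_V.mpr ⟨p, hp, rfl⟩, hθ p⟩
  have h6 : LinearMap.ker θ ⊓ V I (e + m) = (homogeneousSubmodule σ k m).map ψ := by
    ext x
    rw [Submodule.mem_inf, LinearMap.mem_ker, Submodule.mem_map]
    constructor
    · rintro ⟨h, hx⟩
      obtain ⟨p, hp, rfl⟩ := mem_V.mp hx
      rw [hθ, Ideal.Quotient.eq_zero_iff_mem, Submodule.mem_sup] at h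
      obtain ⟨y, hy, z, hz, hyz⟩ := h
      obtain ⟨r, rfl⟩ := Ideal.mem_span_singleton'.mp hz
      refine ⟨homogeneousComponent m r, homogeneousComponent_isHomogeneous _ _, ?_⟩
      rw [hψ, ← homogeneousComponent_mul_of_isHomogeneous hg, Ideal.Quotient.eq]
      have h7 : p = homogeneousComponent (e + m) y + homogeneousComponent (e + m) (g * r) := by
        rw [← map_add, mul_comm g r, hyz, homogeneousComponent_eq_self hp]
      rw [h7, sub_add_cancel_right]
      exact I.neg_mem (homogeneousComponent_mem_of_mem hI hy _)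
    · rintro ⟨r, hr, rfl⟩
      rw [hψ]
      refine ⟨?_, mem_V.mpr ⟨g * r, hg.mul hr, rfl⟩⟩
      rw [hθ, Ideal.Quotient.eq_zero_iff_mem]
      exact Submodule.mem_sup_right (Ideal.mul_mem_right _ _ (Ideal.mem_span_singleton_self g))
  rw [h5, h6, finrank_V, finrank_V] at h4
  omega

omit [Finite σ] in
/-- A proper homogeneous ideal has a homogeneous element whose colon ideal is prime. -/
theorem exists_isPrime_col [Finite σ] {I : Ideal (MvPolynomial σ k)}
    (hI : I.IsHomogeneous (homogeneousSubmodule σ k)) (hne : I ≠ ⊤) :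
    ∃ (g : MvPolynomial σ k) (e : ℕ), g.IsHomogeneous e ∧ g ∉ I ∧ (col I g).IsPrime := by
  have hN : IsNoetherianRing (MvPolynomial σ k) := inferInstance
  let S : Set (Ideal (MvPolynomial σ k)) :=
    {J | ∃ (g : MvPolynomial σ k) (e : ℕ), g.IsHomogeneous e ∧ g ∉ I ∧ J = col I g}
  have hS : S.Nonempty := ⟨col I 1, 1, 0, isHomogeneous_one _ _,
    fun h => hne ((Ideal.eq_top_iff_one _).mpr h), rfl⟩
  obtain ⟨J, ⟨g, e, hg, hgI, rfl⟩, hmax⟩ := set_has_maximal_iff_noetherian.mpr hN S hS
  refine ⟨g, e, hg, hgI, ?_⟩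
  refine (isHomogeneous_col hI hg).isPrime_of_homogeneous_mem_or_mem ?_ ?_
  · intro h
    apply hgI
    have : (1 : MvPolynomial σ k) ∈ col I g := by rw [h]; trivial
    simpa using mem_col.mp this
  · rintro x y ⟨i, hx⟩ ⟨j, hy⟩ hxy
    by_contra hcon
    push Not at hcon
    obtain ⟨hx', hy'⟩ := hcon
    rw [mem_homogeneousSubmodule] at hx hy
    have h1 : ¬ col I g < col I (g * y) :=
      hmax _ ⟨g * y, e + j, hg.mul hy, fun h => hy' (mem_col.mpr h), rfl⟩
    apply h1
    refine lt_of_le_of_ne ?_ ?_
    · intro z hz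
      rw [mem_col] at hz ⊢
      have : g * y * z = y * (g * z) := by ring
      rw [this]
      exact I.mul_mem_left _ hz
    · intro h2
      apply hx'
      rw [h2, mem_col]
      rw [mem_col] at hxy
      convert hxy using 1
      ring

omit [Finite σ] in
/-- Noetherian induction on homogeneous ideals along colon sequences. -/
theorem induction [Finite σ] {C : Ideal (MvPolynomial σ k) → Prop} (htop : C ⊤)
    (hprime : ∀ p : Ideal (MvPolynomial σ k), p.IsPrime →
      p.IsHomogeneous (homogeneousSubmodule σ k) →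
      (∀ J : Ideal (MvPolynomial σ k), J.IsHomogeneous (homogeneousSubmodule σ k) → p < J → C J) →
      C p)
    (hstep : ∀ (I : Ideal (MvPolynomial σ k)) (g : MvPolynomial σ k) (e : ℕ),
      I.IsHomogeneous (homogeneousSubmodule σ k) → g.IsHomogeneous e → g ∉ I →
      (col I g).IsPrime → C (col I g) → C (I ⊔ Ideal.span {g}) → C I)
    (I : Ideal (MvPolynomial σ k)) (hI : I.IsHomogeneous (homogeneousSubmodule σ k)) : C I := by
  have hN : IsNoetherianRing (MvPolynomial σ k) := inferInstance
  induction I using IsNoetherian.induction with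
  | hgt I ih =>
    by_cases hne : I = ⊤
    · rw [hne]; exact htop
    by_cases hIp : Ideal.IsPrime I
    · exact hprime I hIp hI fun J hJ hlt => ih J hlt hJ
    obtain ⟨g, e, hg, hgI, hp⟩ := exists_isPrime_col hI hne
    refine hstep I g e hI hg hgI hp ?_ ?_
    · refine ih _ (lt_of_le_of_ne (le_col I g) ?_) (isHomogeneous_col hI hg)
      rintro h
      exact hIp (h ▸ hp)
    · refine ih _ (lt_of_le_of_ne le_sup_left ?_) (isHomogeneous_sup hI hg)
      intro h
      apply hgI
      rw [h]
      exact Submodule.mem_sup_right (Ideal.mem_span_singleton_self g)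

end K657.HilbFun
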