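import Groth.Agent.ProjDeg.K657.ConstMap
import Groth.Agent.Ega1.GlobGenPt

/-!
# Morphisms `P^n → P^m`, `m < n`, are constant: the main argument
-/

set_option autoImplicit false

universe u

namespace K657.ConstMain

open CategoryTheory CategoryTheory.Limits AlgebraicGeometry TopologicalSpace Opposite TopCat
open Groth.Agent.Fdesc.LocGen
open Groth.Agent.VarietyB Groth.Agent.VarietyB.ProjGlue
open Groth.Agent.Ega2.H295.PnUniq Groth.Agent.Ega2.H295.PnCoord

attribute [local instance] MvPolynomial.gradedAlgebra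

variable {k : Type u} [Field k] {n m : ℕ}

/-- `O(1)` pulled back. -/
noncomputable abbrev LL {X : Scheme.{u}} (f : X ⟶ Proj (MvPolynomial.homogeneousSubmodule (Fin (m + 1)) k)) : X.Modules :=
  (Scheme.Modules.pullback f).obj (Twist.twist (MvPolynomial.homogeneousSubmodule (Fin (m + 1)) k) 1)

theorem isInvertible {X : Scheme.{u}} (f : X ⟶ Proj (MvPolynomial.homogeneousSubmodule (Fin (m + 1)) k)) :
    PicF.IsInvertible (LL f) := by
  rw [isInvertible_iff]
  intro x
  obtain ⟨i, hi⟩ := exists_mem f x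
  exact ⟨_, _, hi, isGen_res_tsec f i le_rfl⟩

theorem exists_notMem (x : ProjectiveSpectrum (MvPolynomial.homogeneousSubmodule (Fin (n + 1)) k)) (d : ℕ) :
    ∃ G : MvPolynomial.homogeneousSubmodule (Fin (n + 1)) k d, G.1 ∉ x.asHomogeneousIdeal := by
  have h1 : ∃ i, (MvPolynomial.X i : MvPolynomial (Fin (n + 1)) k) ∉ x.asHomogeneousIdeal.toIdeal := by
    refine HilbDim.exists_X_notMem x.asHomogeneousIdeal.isHomogeneous x.isPrime.ne_top ?_
    intro h
    exact x.not_irrelevant_le ((TopDim.irrelevant_toIdeal (k := k)).le.trans h.symm.le)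
  obtain ⟨i, hi⟩ := h1
  refine ⟨⟨MvPolynomial.X i ^ d, MvPolynomial.isHomogeneous_X_pow i d⟩, ?_⟩
  exact fun h => hi (x.isPrime.mem_of_pow_mem d h)

variable (f : Proj (MvPolynomial.homogeneousSubmodule (Fin (n + 1)) k) ⟶
  Proj (MvPolynomial.homogeneousSubmodule (Fin (m + 1)) k))

/-- The image of the pulled back coordinate in `O(d)`. -/
noncomputable def tt {d : ℤ} (φ : LL f ≅ Twist.twist (MvPolynomial.homogeneousSubmodule (Fin (n + 1)) k) d)
    (j : Fin (m + 1)) : Γ(Twist.twist (MvPolynomial.homogeneousSubmodule (Fin (n + 1)) k) d, ⊤) :=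
  φ.hom.app ⊤ (tsec f j)

theorem isGen_tt {d : ℤ} (φ : LL f ≅ Twist.twist (MvPolynomial.homogeneousSubmodule (Fin (n + 1)) k) d)
    (i : Fin (m + 1)) : IsGen (res (Twist.twist (MvPolynomial.homogeneousSubmodule (Fin (n + 1)) k) d)
      (le_top : f ⁻¹ᵁ Dp (Fin (m + 1)) k i ≤ ⊤) (tt f φ i)) := by
  have h := (isGen_res_tsec f i (le_refl (f ⁻¹ᵁ Dp (Fin (m + 1)) k i))).app φ.hom
  rw [app_res] at h
  exact h

theorem tt_ne_zero {d : ℤ} (φ : LL f ≅ Twist.twist (MvPolynomial.homogeneousSubmodule (Fin (n + 1)) k) d)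
    (x : Proj (MvPolynomial.homogeneousSubmodule (Fin (n + 1)) k)) (i : Fin (m + 1))
    (hi : x ∈ f ⁻¹ᵁ Dp (Fin (m + 1)) k i) : tt f φ i ≠ 0 := by
  intro h
  have h1 := isGen_tt f φ i
  rw [h, map_zero] at h1
  have h2 := Groth.Agent.Ega1.GlobGenPt.germ_notMem_smul_top h1 x hi
  rw [map_zero] at h2
  exact h2 (zero_mem _)

theorem exists_point (n : ℕ) : Nonempty (ProjectiveSpectrum (MvPolynomial.homogeneousSubmodule (Fin (n + 1)) k)) :=
  ⟨NormalSec.gen _ TwistNeg.h1⟩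

/-- The degree of the pull back of `O(1)` is nonnegative. -/
theorem nonneg (hn : 0 < n) {d : ℤ} (φ : LL f ≅ Twist.twist (MvPolynomial.homogeneousSubmodule (Fin (n + 1)) k) d) :
    0 ≤ d := by
  by_contra hd
  push Not at hd
  obtain ⟨x⟩ := exists_point (k := k) n
  obtain ⟨i, hi⟩ := exists_mem f x
  exact tt_ne_zero f φ x i hi (TwistNeg.eq_zero hn d hd (tt f φ i))

theorem exists_form {e : ℕ} (φ : LL f ≅ Twist.twist (MvPolynomial.homogeneousSubmodule (Fin (n + 1)) k) (e : ℤ))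
    (j : Fin (m + 1)) : ∃ F : MvPolynomial.homogeneousSubmodule (Fin (n + 1)) k e,
      tt f φ j = GlobGen.glob _ F := by
  have h := (NormalSec.bijective (MvPolynomial.homogeneousSubmodule (Fin (n + 1)) k)
    TwistNeg.hgen TwistNeg.h1 inferInstance e).2 (tt f φ j)
  obtain ⟨F, hF⟩ := h
  exact ⟨F, hF.symm⟩

/-- The degree of the pull back of `O(1)` is zero. -/
theorem eq_zero (hmn : m < n) {e : ℕ}
    (φ : LL f ≅ Twist.twist (MvPolynomial.homogeneousSubmodule (Fin (n + 1)) k) (e : ℤ)) : e = 0 := by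
  by_contra he
  choose F hF using exists_form f φ
  obtain ⟨x, hx⟩ := CommonZero.exists_common_zero (k := k) (n := n) (J := Fin (m + 1))
    (by simpa using hmn) (fun j => (F j).1) (fun _ => e) (fun _ => Nat.pos_of_ne_zero he) (fun j => (F j).2)
  obtain ⟨i, hi⟩ := exists_mem f x
  obtain ⟨G, hG⟩ := exists_notMem x e
  have h1 := isGen_tt f φ i
  rw [hF] at h1
  exact GlobGen.notMem_of_isGen _ (F i) G x hG hi h1 (hx i)

theorem isGen_top (φ : LL f ≅ Twist.twist (MvPolynomial.homogeneousSubmodule (Fin (n + 1)) k) ((0 : ℕ) : ℤ)) :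
    ∃ i, IsGen (tsec f i) := by
  choose F hF using exists_form f φ
  obtain ⟨x⟩ := exists_point (k := k) n
  obtain ⟨i, hi⟩ := exists_mem f x
  obtain ⟨G, hG⟩ := exists_notMem x 0
  have h1 := isGen_tt f φ i
  rw [hF] at h1
  have h2 := GlobGen.notMem_of_isGen _ (F i) G x hG hi h1
  have h3 : ∃ a : k, (F i).1 = MvPolynomial.C a := by
    have h4 := (MvPolynomial.IsHomogeneous.totalDegree_le (F i).2)
    exact ⟨_, MvPolynomial.totalDegree_eq_zero_iff_eq_C.1 (Nat.le_zero.1 h4)⟩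
  obtain ⟨a, ha⟩ := h3
  have ha0 : a ≠ 0 := by
    rintro rfl
    rw [ha, MvPolynomial.C_0] at h2
    exact h2 (zero_mem _)
  have hu : IsUnit (F i).1 := by
    rw [ha]
    exact (isUnit_iff_ne_zero.2 ha0).map _
  refine ⟨i, ?_⟩
  have h5 : IsGen (tt f φ i) := by
    rw [hF]
    refine Groth.Agent.Ega2.TwistBasic.isGen_fracSec (𝒜 := MvPolynomial.homogeneousSubmodule (Fin (n + 1)) k)
      ((0 : ℕ) : ℤ) (F i) (⟨1, SetLike.GradedOne.one_mem⟩ : MvPolynomial.homogeneousSubmodule (Fin (n + 1)) k 0)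
      (by simp) ⊤ (fun x _ => Groth.Agent.Ega2.VeryAmpleCrit.one_notMem _ x) (fun x _ => ?_)
    intro h
    exact x.isPrime.ne_top (Ideal.eq_top_of_isUnit_mem _ h hu)
  have h6 := h5.app φ.inv
  have h7 : φ.inv.app ⊤ (tt f φ i) = tsec f i := by
    rw [tt]
    have := congr(($(φ.hom_inv_id)).app ⊤ (tsec f i))
    exact this
  rwa [h7] at h6

theorem main (hmn : m < n) (hf : f ≫ ProjStd.toSpec (Fin (m + 1)) k = ProjStd.toSpec (Fin (n + 1)) k) :
    ∃ q : Spec (CommRingCat.of k) ⟶ Proj (MvPolynomial.homogeneousSubmodule (Fin (m + 1)) k),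
      f = ProjStd.toSpec (Fin (n + 1)) k ≫ q := by
  obtain ⟨d, ⟨φ⟩⟩ := Groth.Agent.S1697.result k n (LL f) (isInvertible f)
  obtain ⟨e, rfl⟩ := Int.eq_ofNat_of_zero_le (nonneg f (by omega) φ)
  obtain rfl := eq_zero f hmn φ
  obtain ⟨i, hi⟩ := isGen_top f φ
  choose g hg using fun j => hi.exists_eq (tsec f j)
  have hiso : IsIso (ProjStd.toSpec (Fin (n + 1)) k).appTop := Groth.Agent.S0024.result n k
  have hc : ∀ j, ∃ c : k, g j = CoordData.baseHom (ProjStd.toSpec (Fin (n + 1)) k) ⊤ c := by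
    intro j
    obtain ⟨b, hb⟩ := (ConcreteCategory.bijective_of_isIso (ProjStd.toSpec (Fin (n + 1)) k).appTop).2 (g j)
    obtain ⟨c, rfl⟩ := (Scheme.ΓSpecIso (CommRingCat.of k)).symm.commRingCatIsoToRingEquiv.surjective b
    refine ⟨c, ?_⟩
    rw [← hb]
    exact (ores_refl _).symm
  choose c hc using hc
  obtain ⟨e, he⟩ := ratio_of_rel f i (V := ⊤) g (fun j => by rw [res_refl, res_refl]; exact hg j)
  obtain ⟨z, hz⟩ := ConstMap.exists_point (k := k) n
  exact ⟨z ≫ f, ConstMap.const_of_ratio f (ProjStd.toSpec (Fin (n + 1)) k) hf z hz i e c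
    (fun j => (he j).trans (hc j))⟩

end K657.ConstMain
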