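import Groth.Agent.ProjDeg.K657.TwistNeg
import Groth.Agent.Ega2.H295.PnCoord

/-!
# A form defining a generator of `O(d)` at a point does not vanish there
-/

set_option autoImplicit false

universe u

namespace K657.GlobGen

open CategoryTheory CategoryTheory.Limits AlgebraicGeometry TopologicalSpace Opposite TopCat
open Groth.Agent.Fdesc.LocGen

variable {R A : Type u} [CommRing R] [CommRing A] [Algebra R A] (𝒜 : ℕ → Submodule R A) [GradedAlgebra 𝒜]

/-- The section `F / 1`. -/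
noncomputable def glob {d : ℕ} (F : 𝒜 d) : Γ(Twist.twist 𝒜 (d : ℤ), ⊤) := Twist.globalOf 𝒜 F

omit [Algebra R A] [CommRing R] in
theorem notMem_aux (P : Ideal A) [P.IsPrime] {F G : A} (c : Localization.AtPrime P) (s t : P.primeCompl)
    (h : (Localization.mk G s : Localization.AtPrime P) = c * Localization.mk F t) (hG : G ∉ P) : F ∉ P := by
  intro hF
  have h3 : IsUnit (Localization.mk G s : Localization.AtPrime P) := by
    rw [Localization.mk_eq_mk', IsLocalization.AtPrime.isUnit_mk'_iff (Localization.AtPrime P) P]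
    exact hG
  rw [h] at h3
  have h4 := isUnit_of_mul_isUnit_right h3
  rw [Localization.mk_eq_mk', IsLocalization.AtPrime.isUnit_mk'_iff (Localization.AtPrime P) P] at h4
  exact h4 hF

theorem notMem_of_isGen {d : ℕ} (F G : 𝒜 d) (x : Proj 𝒜) (hG : G.1 ∉ x.asHomogeneousIdeal)
    {V : (Proj 𝒜).Opens} (hx : x ∈ V) (hgen : IsGen (res (Twist.twist 𝒜 (d : ℤ)) (le_top : V ≤ ⊤) (glob 𝒜 F))) :
    F.1 ∉ x.asHomogeneousIdeal := by
  obtain ⟨r, hr⟩ := hgen.exists_eq (res (Twist.twist 𝒜 (d : ℤ)) (le_top : V ≤ ⊤) (glob 𝒜 G))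
  have h2 := congrArg (fun t : Twist.sectN (𝒜 := 𝒜) (d : ℤ) (op V) => (t.1 ⟨x, hx⟩).1) hr
  have h3 := h2.trans (Groth.Agent.Ega2.TwistBasic.smulS_val (𝒜 := 𝒜) (d : ℤ) r
      (res (Twist.twist 𝒜 (d : ℤ)) (le_top : V ≤ ⊤) (glob 𝒜 F)) ⟨x, hx⟩)
  have := ProjectiveSpectrum.isPrime (𝒜 := 𝒜) x
  exact notMem_aux (ProjectiveSpectrum.asHomogeneousIdeal (𝒜 := 𝒜) x).toIdeal _ _ _ h3 hG

end K657.GlobGen
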