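import Groth.Agent.ProjDeg.K657.HilbMult
import Groth.Agent.Lefpen.H728.RegSeq
import Mathlib.RingTheory.Polynomial.HilbertPoly
import Mathlib.Data.Sym.Card
import Mathlib.Data.Finsupp.Multiset

/-!
# Hilbert polynomials of complete intersections
-/

set_option autoImplicit false

universe u v

namespace K657.HilbCI

open MvPolynomial Module K657.HilbFun K657.PolyDiff K657.HilbDim K657.HilbMult

attribute [local instance] MvPolynomial.gradedAlgebra

variable {k : Type u} [Field k] {σ : Type v} [Finite σ]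

theorem finrank_homogeneous (n m : ℕ) :
    finrank k (homogeneousSubmodule (Fin (n + 1)) k m) = (m + n).choose n := by
  have h : MvPolynomial.homogeneousSubmodule (Fin (n + 1)) k m =
    AddMonoidAlgebra.supported k k {e : Fin (n + 1) →₀ ℕ | e.degree = m} :=
    MvPolynomial.homogeneousSubmodule_eq_finsupp_supported (Fin (n + 1)) k m
  rw [h, (AddMonoidAlgebra.supportedEquivFinsupp (R := k) (S := k)
    {e : Fin (n + 1) →₀ ℕ | e.degree = m}).finrank_eq]
  rw [Module.finrank, rank_finsupp_self, Cardinal.toNat_lift]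
  change Nat.card {e : Fin (n + 1) →₀ ℕ // e.degree = m} = _
  have e1 : {e : Fin (n + 1) →₀ ℕ // e.degree = m} ≃
      {e : Fin (n + 1) →₀ ℕ // (e.sum fun _ => id) = m} := by
    refine Equiv.subtypeEquivRight fun e => ?_
    rw [Finsupp.degree_apply, Finsupp.sum]
    rfl
  rw [Nat.card_congr (e1.trans (Sym.equivNatSum (Fin (n + 1)) m).symm), Nat.card_eq_fintype_card,
    Sym.card_sym_eq_choose, Fintype.card_fin]
  have : n + 1 + m - 1 = n + m := by omega
  rw [this, add_comm n m, Nat.choose_symm_add]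

theorem hilb_bot (n : ℕ) : hilb (⊥ : Ideal (MvPolynomial (Fin (n + 1)) k)) =
    Polynomial.preHilbertPoly ℚ n 0 := by
  apply hilb_eq
  refine ⟨0, fun m _ => ?_⟩
  rw [Polynomial.preHilbertPoly_eq_choose_sub_add ℚ n (Nat.zero_le m), cast_hF,
    finrank_homogeneous]
  have h1 : (⊥ : Ideal (MvPolynomial (Fin (n + 1)) k)).restrictScalars k ⊓
      homogeneousSubmodule (Fin (n + 1)) k m = ⊥ := by
    rw [Submodule.restrictScalars_bot, bot_inf_eq]
  rw [h1, finrank_bot]
  simp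

/-- Hypersurface section by a nonzerodivisor. -/
theorem hilb_section {I : Ideal (MvPolynomial σ k)}
    (hI : I.IsHomogeneous (homogeneousSubmodule σ k)) {g : MvPolynomial σ k} {e : ℕ}
    (hg : g.IsHomogeneous e) (hcol : col I g = I) :
    hilb (I ⊔ Ideal.span {g}) = diff e (hilb I) := by
  have h := hilb_colon hI hg
  rw [hcol] at h
  rw [diff, eq_sub_iff_add_eq, add_comm]
  exact h.symm

/-- The ideal generated by the first `c` elements. -/
noncomputable def J {n : ℕ} (f : Fin n → MvPolynomial σ k) (c : ℕ) : Ideal (MvPolynomial σ k) :=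
  Ideal.span (f '' {j | (j : ℕ) < c})

omit [Finite σ] in
theorem J_zero {n : ℕ} (f : Fin n → MvPolynomial σ k) : J f 0 = ⊥ := by
  simp [J]

omit [Finite σ] in
theorem J_succ {n : ℕ} (f : Fin n → MvPolynomial σ k) (c : ℕ) (hc : c < n) :
    J f (c + 1) = J f c ⊔ Ideal.span {f ⟨c, hc⟩} := by
  rw [J, J, ← Ideal.span_union]
  congr 1
  ext x
  simp only [Set.mem_image, Set.mem_ofPred_eq, Set.mem_union, Set.mem_singleton_iff]
  constructor
  · rintro ⟨j, hj, rfl⟩
    rcases Nat.lt_succ_iff_lt_or_eq.mp hj with h | h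
    · exact Or.inl ⟨j, h, rfl⟩
    · right; congr 1; exact Fin.ext h
  · rintro (⟨j, hj, rfl⟩ | rfl)
    · exact ⟨j, Nat.lt_succ_of_lt hj, rfl⟩
    · exact ⟨⟨c, hc⟩, Nat.lt_succ_self c, rfl⟩

omit [Finite σ] in
theorem J_top {n : ℕ} (f : Fin n → MvPolynomial σ k) : J f n = Ideal.span (Set.range f) := by
  rw [J, ← Set.image_univ]
  congr 2
  ext j
  simp

omit [Finite σ] in
theorem isHomogeneous_J {n : ℕ} (f : Fin n → MvPolynomial σ k) (d : Fin n → ℕ)
    (hf : ∀ j, (f j).IsHomogeneous (d j)) (c : ℕ) :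
    (J f c).IsHomogeneous (homogeneousSubmodule σ k) :=
  Groth.Agent.Lefpen.H728.RegSeq.isHomogeneous_span_image f d hf _

/-- Degrees of the successive Hilbert polynomials. -/
theorem hilb_J {n : ℕ} (f : Fin n → MvPolynomial (Fin (n + 1)) k) (d : Fin n → ℕ)
    (hd : ∀ j, 1 ≤ d j) (hf : ∀ j, (f j).IsHomogeneous (d j))
    (hht : (n : ℕ∞) ≤ (Ideal.span (Set.range f)).height) (c : ℕ) (hc : c ≤ n) :
    (hilb (J f c)).natDegree = n - c ∧
      ((n - c).factorial : ℚ) * (hilb (J f c)).leadingCoeff =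
        ∏ j : Fin n, if (j : ℕ) < c then (d j : ℚ) else 1 := by
  induction c with
  | zero =>
    rw [J_zero, hilb_bot, Polynomial.natDegree_preHilbertPoly,
      Polynomial.leadingCoeff_preHilbertPoly]
    refine ⟨rfl, ?_⟩
    have : (n.factorial : ℚ) ≠ 0 := by exact_mod_cast n.factorial_ne_zero
    simp [this]
  | succ c ih =>
    obtain ⟨ih1, ih2⟩ := ih (by omega)
    have hc' : c < n := by omega
    have hcol : col (J f c) (f ⟨c, hc'⟩) = J f c := by
      refine le_antisymm ?_ (le_col _ _)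
      intro x hx
      exact Groth.Agent.Lefpen.H728.RegSeq.mem_of_mul_mem f d hd hf hht ⟨c, hc'⟩ x hx
    rw [J_succ f c hc', hilb_section (isHomogeneous_J f d hf c) (hf _) hcol]
    obtain ⟨h1, h2, -⟩ := natDegree_diff (d := d ⟨c, hc'⟩) (hd _) (P := hilb (J f c)) (by omega)
    refine ⟨by omega, ?_⟩
    rw [h2, ih1]
    obtain ⟨t, ht⟩ : ∃ t, n - c = t + 1 := ⟨n - c - 1, by omega⟩
    have ht' : n - (c + 1) = t := by omega
    rw [ht', ht]
    rw [ht, Nat.factorial_succ] at ih2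
    have h3 : ∏ j : Fin n, (if (j : ℕ) < c + 1 then (d j : ℚ) else 1) =
        d ⟨c, hc'⟩ * ∏ j : Fin n, (if (j : ℕ) < c then (d j : ℚ) else 1) := by
      rw [← Finset.mul_prod_erase _ _ (Finset.mem_univ (⟨c, hc'⟩ : Fin n)),
        ← Finset.mul_prod_erase _ (fun j : Fin n => if (j : ℕ) < c then (d j : ℚ) else 1)
          (Finset.mem_univ (⟨c, hc'⟩ : Fin n))]
      simp only [Nat.lt_succ_self, if_true, lt_irrefl, if_false, one_mul]
      congr 1
      refine Finset.prod_congr rfl fun j hj => ?_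
      have hne : (j : ℕ) ≠ c := fun h => (Finset.ne_of_mem_erase hj) (Fin.ext h)
      by_cases h : (j : ℕ) < c
      · rw [if_pos h, if_pos (by omega)]
      · rw [if_neg h, if_neg (by omega)]
    rw [h3, ← ih2]
    push_cast
    ring

theorem height_le {n : ℕ} {I : Ideal (MvPolynomial (Fin (n + 1)) k)}
    (hdim : ringKrullDim (MvPolynomial (Fin (n + 1)) k ⧸ I) ≤ 1) : (n : ℕ∞) ≤ I.height := by
  rw [Ideal.height_eq_inf_minimalPrimes]
  refine le_iInf₂ fun q hq => ?_
  have hqp : q.IsPrime := hq.1.1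
  have h1 := Groth.Agent.CalgC.DimFT.height_add_ringKrullDim_quotient k
    (MvPolynomial (Fin (n + 1)) k) q
  rw [Groth.Agent.CalgC.DimFT.ringKrullDim_mvPolynomial_fin] at h1
  have h2 : ringKrullDim (MvPolynomial (Fin (n + 1)) k ⧸ q) ≤ 1 :=
    (ringKrullDim_quotient_anti hq.1.2).trans hdim
  have h3 : ((n + 1 : ℕ) : WithBot ℕ∞) ≤ (q.height : WithBot ℕ∞) + 1 := by
    rw [← h1]; gcongr
  have h4 : ((n : ℕ∞) : WithBot ℕ∞) + 1 ≤ (q.height : WithBot ℕ∞) + 1 := by
    refine le_trans (le_of_eq ?_) h3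
    push_cast; rfl
  have h5 : ((n : ℕ∞) + 1 : ℕ∞) ≤ q.height + 1 := by exact_mod_cast h4
  exact (ENat.add_le_add_iff_right ENat.one_ne_top).mp h5

theorem hF_span_range {n : ℕ} (f : Fin n → MvPolynomial (Fin (n + 1)) k) (d : Fin n → ℕ)
    (hd : ∀ j, 1 ≤ d j) (hf : ∀ j, (f j).IsHomogeneous (d j))
    (hdim : ringKrullDim (MvPolynomial (Fin (n + 1)) k ⧸ Ideal.span (Set.range f)) ≤ 1) :
    ∃ m₀ : ℕ, ∀ m : ℕ, m₀ ≤ m → hF (Ideal.span (Set.range f)) m = ∏ i, d i := by
  obtain ⟨h1, h2⟩ := hilb_J f d hd hf (height_le hdim) n le_rfl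
  have h3 := isHilb_hilb (isHomogeneous_J f d hf n)
  rw [J_top] at h1 h2 h3
  rw [Nat.sub_self] at h1 h2
  obtain ⟨c, hc⟩ := Polynomial.natDegree_eq_zero.mp h1
  obtain ⟨m₀, hm⟩ := h3
  refine ⟨m₀, fun m hm' => ?_⟩
  have h4 := hm m hm'
  rw [← hc] at h4 h2
  rw [Polynomial.eval_C] at h4
  rw [Polynomial.leadingCoeff_C, Nat.factorial_zero, Nat.cast_one, one_mul, h4] at h2
  have h5 : (hF (Ideal.span (Set.range f)) m : ℚ) = ((∏ i, d i : ℕ) : ℚ) := by
    rw [h2]
    push_cast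
    refine Finset.prod_congr rfl fun j _ => ?_
    rw [if_pos j.2]
  exact_mod_cast h5

end K657.HilbCI
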