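import Groth.Agent.ProjDeg.K657.HilbDim
import Groth.Agent.MiscA.LenLocal

/-!
# The degree of a homogeneous ideal as a sum over its top-dimensional minimal primes
-/

set_option autoImplicit false

universe u v

namespace K657.HilbMult

open MvPolynomial Module K657.HilbFun K657.PolyDiff K657.HilbDim

attribute [local instance] MvPolynomial.gradedAlgebra

variable {k : Type u} [Field k] {σ : Type v} [Finite σ]

/-- Multiplicity of `R/I` at the prime `p`. -/
noncomputable def mult (I p : Ideal (MvPolynomial σ k)) [p.IsPrime] : ℕ∞ :=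
  Module.length (Localization.AtPrime p) (LocalizedModule p.primeCompl (MvPolynomial σ k ⧸ I))

omit [Finite σ] in
theorem mult_colon (I : Ideal (MvPolynomial σ k)) (g : MvPolynomial σ k)
    (p : Ideal (MvPolynomial σ k)) [p.IsPrime] :
    mult I p = mult (col I g) p + mult (I ⊔ Ideal.span {g}) p := by
  have hle : col I g ≤ LinearMap.ker
      ((Submodule.mkQ I).comp (LinearMap.mulLeft (MvPolynomial σ k) g)) := by
    intro x hx
    rw [LinearMap.mem_ker, LinearMap.comp_apply, LinearMap.mulLeft_apply, Submodule.mkQ_apply,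
      Submodule.Quotient.mk_eq_zero]
    exact mem_col.mp hx
  let f : (MvPolynomial σ k ⧸ col I g) →ₗ[MvPolynomial σ k] (MvPolynomial σ k ⧸ I) :=
    Submodule.liftQ _ ((Submodule.mkQ I).comp (LinearMap.mulLeft (MvPolynomial σ k) g)) hle
  let h : (MvPolynomial σ k ⧸ I) →ₗ[MvPolynomial σ k]
      (MvPolynomial σ k ⧸ (I ⊔ Ideal.span {g})) :=
    Submodule.factor (le_sup_left : I ≤ I ⊔ Ideal.span {g})
  have hf : ∀ x, f (Submodule.Quotient.mk x) = Submodule.Quotient.mk (g * x) := fun x => rfl
  have hh : ∀ x, h (Submodule.Quotient.mk x) = Submodule.Quotient.mk x := fun x => rfl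
  refine Groth.Agent.MiscA.LenLocal.length_localized_add p.primeCompl f h ?_ ?_ ?_
  · rw [← LinearMap.ker_eq_bot, LinearMap.ker_eq_bot']
    intro x hx
    obtain ⟨x, rfl⟩ := Submodule.Quotient.mk_surjective _ x
    rw [hf, Submodule.Quotient.mk_eq_zero] at hx
    rw [Submodule.Quotient.mk_eq_zero]
    exact mem_col.mpr hx
  · intro x
    obtain ⟨x, rfl⟩ := Submodule.Quotient.mk_surjective _ x
    exact ⟨Submodule.Quotient.mk x, hh x⟩
  · intro x
    obtain ⟨x, rfl⟩ := Submodule.Quotient.mk_surjective _ x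
    rw [hh, Submodule.Quotient.mk_eq_zero, Submodule.mem_sup]
    constructor
    · rintro ⟨y, hy, z, hz, rfl⟩
      obtain ⟨r, rfl⟩ := Ideal.mem_span_singleton'.mp hz
      refine ⟨Submodule.Quotient.mk r, ?_⟩
      rw [hf, Submodule.Quotient.eq]
      have : g * r - (y + r * g) = -y := by ring
      rw [this]
      exact I.neg_mem hy
    · rintro ⟨r, hr⟩
      obtain ⟨r, rfl⟩ := Submodule.Quotient.mk_surjective _ r
      rw [hf, Submodule.Quotient.eq] at hr
      refine ⟨x - g * r, ?_, g * r, ?_, by ring⟩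
      · rw [← neg_sub]; exact I.neg_mem hr
      · exact Ideal.mul_mem_right _ _ (Ideal.mem_span_singleton_self g)

omit [Finite σ] in
theorem mult_top (p : Ideal (MvPolynomial σ k)) [hp : p.IsPrime] :
    mult (⊤ : Ideal (MvPolynomial σ k)) p = 0 :=
  Groth.Agent.MiscA.LenLocal.length_localized_quotient_of_not_le p ⊤
    fun h => hp.ne_top (top_le_iff.mp h)

omit [Finite σ] in
theorem mult_of_not_le (p q : Ideal (MvPolynomial σ k)) [p.IsPrime] (h : ¬ q ≤ p) :
    mult q p = 0 :=
  Groth.Agent.MiscA.LenLocal.length_localized_quotient_of_not_le p q h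

omit [Finite σ] in
theorem mult_self (p : Ideal (MvPolynomial σ k)) [p.IsPrime] : mult p p = 1 :=
  Groth.Agent.MiscA.LenLocal.length_localized_quotient_self p

/-- The Hilbert polynomial (junk value `0` if it does not exist). -/
noncomputable def hilb (I : Ideal (MvPolynomial σ k)) : Polynomial ℚ := by
  classical
  exact if h : ∃ P, IsHilb I P then h.choose else 0

theorem isHilb_hilb {I : Ideal (MvPolynomial σ k)}
    (hI : I.IsHomogeneous (homogeneousSubmodule σ k)) : IsHilb I (hilb I) := by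
  obtain ⟨P, hP, -⟩ := good I hI
  have h : ∃ P, IsHilb I P := ⟨P, hP⟩
  rw [hilb, dif_pos h]
  exact h.choose_spec

omit [Finite σ] in
theorem hilb_eq {I : Ideal (MvPolynomial σ k)} {P : Polynomial ℚ} (hP : IsHilb I P) :
    hilb I = P := by
  have h : ∃ P, IsHilb I P := ⟨P, hP⟩
  rw [hilb, dif_pos h]
  exact h.choose_spec.unique hP

theorem hilb_top : hilb (⊤ : Ideal (MvPolynomial σ k)) = 0 := by
  obtain ⟨P, hP, h⟩ := good_top (k := k) (σ := σ)
  rcases h with ⟨rfl, -⟩ | ⟨-, h⟩
  · exact hilb_eq hP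
  · have : Subsingleton (MvPolynomial σ k ⧸ (⊤ : Ideal (MvPolynomial σ k))) :=
      Ideal.Quotient.subsingleton_iff.mpr rfl
    rw [ringKrullDim_eq_bot_of_subsingleton] at h
    exact absurd h.symm (WithBot.coe_ne_bot)

/-- Top-degree test: `hilb J ≠ 0` and `natDegree (hilb J) = t` iff `dim R/J = t + 1`. -/
theorem dim_eq_iff {J : Ideal (MvPolynomial σ k)}
    (hJ : J.IsHomogeneous (homogeneousSubmodule σ k)) (t : ℕ) :
    ringKrullDim (MvPolynomial σ k ⧸ J) = ((t + 1 : ℕ) : WithBot ℕ∞) ↔
      hilb J ≠ 0 ∧ (hilb J).natDegree = t := by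
  constructor
  · intro h
    have h0 : hilb J ≠ 0 := by
      intro h0
      have h1 := ringKrullDim_le_zero_of_isHilb_zero hJ (h0 ▸ isHilb_hilb hJ)
      rw [h] at h1
      have h2 : ((t + 1 : ℕ) : WithBot ℕ∞) ≤ ((0 : ℕ) : WithBot ℕ∞) := h1
      have := WithBot.coe_le_coe.mp h2
      have := Nat.cast_le (α := ℕ∞).mp this
      omega
    refine ⟨h0, ?_⟩
    have h1 := (ringKrullDim_eq_of_isHilb hJ (isHilb_hilb hJ) h0).1
    rw [h] at h1
    have h2 : t + 1 = (hilb J).natDegree + 1 := by exact_mod_cast h1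
    omega
  · rintro ⟨h0, rfl⟩
    exact (ringKrullDim_eq_of_isHilb hJ (isHilb_hilb hJ) h0).1

theorem dim_le_iff {J : Ideal (MvPolynomial σ k)}
    (hJ : J.IsHomogeneous (homogeneousSubmodule σ k)) (t : ℕ) :
    ringKrullDim (MvPolynomial σ k ⧸ J) ≤ ((t + 1 : ℕ) : WithBot ℕ∞) ↔
      (hilb J).natDegree ≤ t := by
  by_cases h0 : hilb J = 0
  · have h1 := ringKrullDim_le_zero_of_isHilb_zero hJ (h0 ▸ isHilb_hilb hJ)
    rw [h0, Polynomial.natDegree_zero]
    simp only [Nat.zero_le, iff_true]
    exact h1.trans (by exact_mod_cast Nat.zero_le _)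
  · rw [(ringKrullDim_eq_of_isHilb hJ (isHilb_hilb hJ) h0).1]
    constructor
    · intro h
      have h2 : (hilb J).natDegree + 1 ≤ t + 1 := by exact_mod_cast h
      omega
    · intro h
      have h2 : (hilb J).natDegree + 1 ≤ t + 1 := by omega
      exact_mod_cast h2

theorem natDegree_hilb_mono {I J : Ideal (MvPolynomial σ k)}
    (hI : I.IsHomogeneous (homogeneousSubmodule σ k))
    (hJ : J.IsHomogeneous (homogeneousSubmodule σ k)) (h : I ≤ J) :
    (hilb J).natDegree ≤ (hilb I).natDegree := by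
  rw [← dim_le_iff hJ]
  exact (ringKrullDim_quotient_anti h).trans ((dim_le_iff hI _).mpr le_rfl)

theorem hilb_colon {I : Ideal (MvPolynomial σ k)}
    (hI : I.IsHomogeneous (homogeneousSubmodule σ k)) {g : MvPolynomial σ k} {e : ℕ}
    (hg : g.IsHomogeneous e) :
    hilb I = Polynomial.taylor (-(e : ℚ)) (hilb (col I g)) + hilb (I ⊔ Ideal.span {g}) :=
  hilb_eq (IsHilb.colon hI hg (isHilb_hilb (isHomogeneous_col hI hg))
    (isHilb_hilb (isHomogeneous_sup hI hg)))

open Classical in
/-- The associativity formula: top coefficient of the Hilbert polynomial. -/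
theorem coeff_hilb_eq_sum {ι : Type} [Fintype ι] (p : ι → Ideal (MvPolynomial σ k))
    [hp : ∀ i, (p i).IsPrime] (hph : ∀ i, (p i).IsHomogeneous (homogeneousSubmodule σ k))
    (hinj : Function.Injective p) (t : ℕ) (I : Ideal (MvPolynomial σ k))
    (hI : I.IsHomogeneous (homogeneousSubmodule σ k)) :
    (hilb I).natDegree ≤ t →
    (∀ q : Ideal (MvPolynomial σ k), q.IsPrime → q.IsHomogeneous (homogeneousSubmodule σ k) →
      I ≤ q → hilb q ≠ 0 → (hilb q).natDegree = t → ∃ i, q = p i) →
    (∀ i, (hilb (p i) ≠ 0 ∧ (hilb (p i)).natDegree = t) → mult I (p i) ≠ ⊤) ∧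
    (hilb I).coeff t = ∑ i, if (hilb (p i) ≠ 0 ∧ (hilb (p i)).natDegree = t) then
      (hilb (p i)).coeff t * ((mult I (p i)).toNat : ℚ) else 0 := by
  refine K657.HilbFun.induction (C := fun I => (hilb I).natDegree ≤ t →
    (∀ q : Ideal (MvPolynomial σ k), q.IsPrime → q.IsHomogeneous (homogeneousSubmodule σ k) →
      I ≤ q → hilb q ≠ 0 → (hilb q).natDegree = t → ∃ i, q = p i) →
    (∀ i, (hilb (p i) ≠ 0 ∧ (hilb (p i)).natDegree = t) → mult I (p i) ≠ ⊤) ∧
    (hilb I).coeff t = ∑ i, if (hilb (p i) ≠ 0 ∧ (hilb (p i)).natDegree = t) then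
      (hilb (p i)).coeff t * ((mult I (p i)).toNat : ℚ) else 0) ?_ ?_ ?_ I hI
  · -- `I = ⊤`
    intro _ _
    refine ⟨fun i _ => by rw [mult_top]; exact ENat.zero_ne_top, ?_⟩
    rw [hilb_top, Polynomial.coeff_zero, eq_comm]
    refine Finset.sum_eq_zero fun i _ => ?_
    rw [mult_top]
    simp
  · -- `I` prime
    intro q hq hqh _ hdeg hall
    have key : ∀ i, (hilb (p i) ≠ 0 ∧ (hilb (p i)).natDegree = t) → q ≠ p i → mult q (p i) = 0 := by
      intro i hi hne
      apply mult_of_not_le
      intro hle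
      have h1 := ringKrullDim_quotient_add_one_le_of_lt (lt_of_le_of_ne hle hne)
      rw [(dim_eq_iff (hph i) t).mpr hi] at h1
      have h2 := h1.trans ((dim_le_iff hqh t).mpr hdeg)
      have h3 : t + 1 + 1 ≤ t + 1 := by exact_mod_cast h2
      omega
    refine ⟨?_, ?_⟩
    · intro i hi
      by_cases hne : q = p i
      · subst hne; rw [mult_self]; exact ENat.one_ne_top
      · rw [key i hi hne]; exact ENat.zero_ne_top
    · by_cases hqt : hilb q ≠ 0 ∧ (hilb q).natDegree = t
      · obtain ⟨i₀, rfl⟩ := hall q hq hqh le_rfl hqt.1 hqt.2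
        rw [Finset.sum_eq_single i₀]
        · rw [if_pos hqt, mult_self]; simp
        · intro i _ hi
          split_ifs with h
          · rw [key i h (fun h' => hi (hinj h').symm)]; simp
          · rfl
        · intro h; exact absurd (Finset.mem_univ _) h
      · have h0 : (hilb q).coeff t = 0 := by
          rw [not_and_or, not_not] at hqt
          rcases hqt with h | h
          · rw [h]; simp
          · exact Polynomial.coeff_eq_zero_of_natDegree_lt (lt_of_le_of_ne hdeg h)
        rw [h0, eq_comm]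
        refine Finset.sum_eq_zero fun i _ => ?_
        split_ifs with h
        · have hne : q ≠ p i := by rintro rfl; exact hqt h
          rw [key i h hne]; simp
        · rfl
  · -- the colon sequence
    intro I g e hI hg hgI hcol h1 h2 hdeg hall
    have hch := isHomogeneous_col hI hg
    have hsh := isHomogeneous_sup hI hg
    obtain ⟨a1, b1⟩ := h1 ((natDegree_hilb_mono hI hch (le_col I g)).trans hdeg)
      fun q hq hqh hle => hall q hq hqh ((le_col I g).trans hle)
    obtain ⟨a2, b2⟩ := h2 ((natDegree_hilb_mono hI hsh le_sup_left).trans hdeg)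
      fun q hq hqh hle => hall q hq hqh (le_sup_left.trans hle)
    refine ⟨?_, ?_⟩
    · intro i hi
      rw [mult_colon I g]
      intro h
      rcases ENat.add_eq_top.mp h with h | h
      · exact a1 i hi h
      · exact a2 i hi h
    · rw [hilb_colon hI hg, Polynomial.coeff_add, coeff_taylor_top _ _
        ((natDegree_hilb_mono hI hch (le_col I g)).trans hdeg), b1, b2, ← Finset.sum_add_distrib]
      refine Finset.sum_congr rfl fun i _ => ?_
      split_ifs with h
      · rw [mult_colon I g, ENat.toNat_add (a1 i h) (a2 i h)]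
        push_cast
        ring
      · simp

omit [Finite σ] in
theorem isHomogeneous_of_mem_minimalPrimes {I : Ideal (MvPolynomial σ k)}
    (hI : I.IsHomogeneous (homogeneousSubmodule σ k)) {q : Ideal (MvPolynomial σ k)}
    (hq : q ∈ I.minimalPrimes) : q.IsHomogeneous (homogeneousSubmodule σ k) := by
  have hqp : q.IsPrime := hq.1.1
  have h1 : I ≤ (q.homogeneousCore (homogeneousSubmodule σ k)).toIdeal := by
    rw [← hI.toIdeal_homogeneousCore_eq_self]
    exact Ideal.homogeneousCore_mono _ hq.1.2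
  have h2 : (q.homogeneousCore (homogeneousSubmodule σ k)).toIdeal ≤ q :=
    Ideal.toIdeal_homogeneousCore_le _ q
  have h3 := hq.2 ⟨hqp.homogeneousCore, h1⟩ h2
  rw [Ideal.IsHomogeneous.iff_eq]
  exact le_antisymm h2 h3

/-- The degree formula. -/
theorem degree_eq_sum {r : ℕ} (I : Ideal (MvPolynomial σ k))
    (hI : I.IsHomogeneous (homogeneousSubmodule σ k)) (p : Fin r → Ideal (MvPolynomial σ k))
    [hp : ∀ i, (p i).IsPrime] (hinj : Function.Injective p)
    (hmin : ∀ q : Ideal (MvPolynomial σ k), q ∈ I.minimalPrimes ↔ ∃ i, q = p i) :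
    ((hilb I).natDegree.factorial : ℚ) * (hilb I).leadingCoeff =
      ∑ i, if (hilb (p i)).natDegree = (hilb I).natDegree then
        ((hilb (p i)).natDegree.factorial : ℚ) * (hilb (p i)).leadingCoeff *
          (mult I (p i)).toNat else 0 := by
  classical
  have hph : ∀ i, (p i).IsHomogeneous (homogeneousSubmodule σ k) := fun i =>
    isHomogeneous_of_mem_minimalPrimes hI ((hmin _).mpr ⟨i, rfl⟩)
  have hall : ∀ q : Ideal (MvPolynomial σ k), q.IsPrime →
      q.IsHomogeneous (homogeneousSubmodule σ k) →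
      I ≤ q → hilb q ≠ 0 → (hilb q).natDegree = (hilb I).natDegree → ∃ i, q = p i := by
    intro q hq hqh hle h0 hdeg
    obtain ⟨q', hq', hle'⟩ := Ideal.exists_minimalPrimes_le hle
    rcases hle'.eq_or_lt with rfl | hlt
    · exact (hmin _).mp hq'
    · exfalso
      have hq'p : q'.IsPrime := hq'.1.1
      have h1 := ringKrullDim_quotient_add_one_le_of_lt hlt
      rw [(dim_eq_iff hqh _).mpr ⟨h0, hdeg⟩] at h1
      have h2 := h1.trans ((ringKrullDim_quotient_anti hq'.1.2).trans
        ((dim_le_iff hI _).mpr le_rfl))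
      have h3 : (hilb I).natDegree + 1 + 1 ≤ (hilb I).natDegree + 1 := by exact_mod_cast h2
      omega
  obtain ⟨-, h⟩ := coeff_hilb_eq_sum p hph hinj (hilb I).natDegree I hI le_rfl hall
  rw [Polynomial.leadingCoeff, h, Finset.mul_sum]
  refine Finset.sum_congr rfl fun i _ => ?_
  by_cases hd : (hilb (p i)).natDegree = (hilb I).natDegree
  · rw [if_pos hd]
    by_cases h0 : hilb (p i) = 0
    · rw [if_neg (fun h => h.1 h0), h0]; simp
    · rw [if_pos ⟨h0, hd⟩, Polynomial.leadingCoeff, hd]; ring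
  · rw [if_neg hd, if_neg (fun h => hd h.2), mul_zero]

/-- Bezout for a hypersurface section of a homogeneous prime. -/
theorem bezout {r : ℕ} (I : Ideal (MvPolynomial σ k)) [I.IsPrime]
    (hI : I.IsHomogeneous (homogeneousSubmodule σ k)) {f : MvPolynomial σ k} {d : ℕ} (hd : 0 < d)
    (hf : f.IsHomogeneous d) (hfI : f ∉ I) (hdim : 1 ≤ (hilb I).natDegree)
    (p : Fin r → Ideal (MvPolynomial σ k))
    [hp : ∀ i, (p i).IsPrime] (hinj : Function.Injective p)
    (hmin : ∀ q : Ideal (MvPolynomial σ k), q ∈ (I ⊔ Ideal.span {f}).minimalPrimes ↔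
      ∃ i, q = p i) :
    (d : ℚ) * (((hilb I).natDegree.factorial : ℚ) * (hilb I).leadingCoeff) =
      ∑ i, ((hilb (p i)).natDegree.factorial : ℚ) * (hilb (p i)).leadingCoeff *
          (mult (I ⊔ Ideal.span {f}) (p i)).toNat := by
  have hI' := isHomogeneous_sup hI hf
  have h1 : hilb (I ⊔ Ideal.span {f}) = diff d (hilb I) :=
    IsHilb.section hI hf hfI (isHilb_hilb hI) (isHilb_hilb hI')
  obtain ⟨h2, h3, h4⟩ := natDegree_diff hd hdim
  rw [← h1] at h2 h3 h4
  have h5 := degree_eq_sum _ hI' p hinj hmin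
  have h6 : ((hilb (I ⊔ Ideal.span {f})).natDegree.factorial : ℚ) *
      (hilb (I ⊔ Ideal.span {f})).leadingCoeff =
      d * (((hilb I).natDegree.factorial : ℚ) * (hilb I).leadingCoeff) := by
    rw [h3, ← h2, Nat.factorial_succ]
    push_cast
    ring
  rw [← h6, h5]
  refine Finset.sum_congr rfl fun i _ => ?_
  rw [if_pos]
  have hm := (hmin (p i)).mpr ⟨i, rfl⟩
  have hph := isHomogeneous_of_mem_minimalPrimes hI' hm
  have h7 := ringKrullDim_minimalPrimes_add_one hfI hm
  have h8 := (dim_eq_iff hI (hilb I).natDegree).mpr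
    ⟨by rintro h; rw [h] at hdim; simp at hdim, rfl⟩
  rw [h8, ← h2] at h7
  have h9 : ringKrullDim (MvPolynomial σ k ⧸ p i) =
      (((hilb (I ⊔ Ideal.span {f})).natDegree + 1 : ℕ) : WithBot ℕ∞) := by
    have h10 : ringKrullDim (MvPolynomial σ k ⧸ p i) + 1 =
        (((hilb (I ⊔ Ideal.span {f})).natDegree + 1 : ℕ) : WithBot ℕ∞) + 1 := by
      rw [h7]; push_cast; rfl
    exact ENat.WithBot.add_one_cancel.mp h10
  exact ((dim_eq_iff hph _).mp h9).2

end K657.HilbMult
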