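import Groth.Agent.CharCyc.K716.Td
import Groth.Agent.S3387
import Mathlib.AlgebraicGeometry.Morphisms.Proper
import Mathlib.AlgebraicGeometry.Morphisms.FiniteType

/-!
# Irreducibility of the total space from the closed fibres
-/

set_option autoImplicit false

universe u

namespace K657.IrrFib

open CategoryTheory CategoryTheory.Limits AlgebraicGeometry TopologicalSpace
open K716.Td

variable {k : Type u} [Field k] {X Y : Scheme.{u}}

theorem eq_univ_of_closedPoints {T : Type*} [TopologicalSpace T] [JacobsonSpace T] {Z : Set T} (hZ : IsClosed Z)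
    (h : ∀ x : T, IsClosed ({x} : Set T) → x ∈ Z) : Z = Set.univ := by
  by_contra hne
  have h1 : (Zᶜ).Nonempty := Set.nonempty_compl.2 hne
  obtain ⟨x, hx, hx'⟩ := nonempty_inter_closedPoints h1 hZ.isOpen_compl.isLocallyClosed
  exact hx (h x hx')

theorem eq_empty_of_closedPoints {T : Type*} [TopologicalSpace T] [JacobsonSpace T] {Z : Set T} (hZ : IsClosed Z)
    (h : ∀ x : T, IsClosed ({x} : Set T) → x ∉ Z) : Z = ∅ := by
  by_contra hne
  obtain ⟨x, hx, hx'⟩ := nonempty_inter_closedPoints (Set.nonempty_iff_ne_empty.2 hne) hZ.isLocallyClosed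
  exact h x hx' hx

theorem main (pX : X ⟶ Spec (CommRingCat.of k)) (pY : Y ⟶ Spec (CommRingCat.of k)) [IsProper pX] [IsProper pY]
    (f : X ⟶ Y) (hf : f ≫ pY = pX) [IrreducibleSpace Y] (m : ℕ)
    (hirr : ∀ y : Y, IsClosed ({y} : Set Y) → IrreducibleSpace (f.fiber y))
    (hdim : ∀ y : Y, IsClosed ({y} : Set Y) → topologicalKrullDim (f.fiber y) = m) :
    IrreducibleSpace X ∧ topologicalKrullDim X = topologicalKrullDim Y + m := by
  have hpf : IsProper f := by
    have : IsProper (f ≫ pY) := by rw [hf]; infer_instance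
    exact IsProper.of_comp f pY
  have hJX : JacobsonSpace X := LocallyOfFiniteType.jacobsonSpace pX
  have hJY : JacobsonSpace Y := LocallyOfFiniteType.jacobsonSpace pY
  -- the fibre dimensions
  have h1 : ∀ y : Y, (m : WithBot ℕ∞) ≤ topologicalKrullDim (f.fiber y) := by
    have hcl := Groth.Agent.S3387.result f f.isClosedMap m
    have := eq_univ_of_closedPoints hcl (fun y hy => (hdim y hy).ge)
    intro y
    have hy : y ∈ (Set.univ : Set Y) := trivial
    rw [← this] at hy
    exact hy
  have h2 : ∀ y : Y, topologicalKrullDim (f.fiber y) ≤ (m : WithBot ℕ∞) := by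
    have hcl := Groth.Agent.S3387.result f f.isClosedMap (m + 1)
    have := eq_empty_of_closedPoints hcl (fun y hy h => by
      have h3 : ((m + 1 : ℕ) : WithBot ℕ∞) ≤ topologicalKrullDim (f.fiber y) := h
      rw [hdim y hy] at h3
      have : m + 1 ≤ m := by exact_mod_cast h3
      omega)
    intro y
    rw [dim_fiber_le_iff]
    intro x hx
    by_contra hcon
    push Not at hcon
    have hy : y ∈ {y : Y | ((m + 1 : ℕ) : WithBot ℕ∞) ≤ topologicalKrullDim (f.fiber y)} :=
      (le_dim_fiber_iff f y (m + 1)).2 ⟨x, hx, hcon⟩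
    rw [this] at hy
    exact hy
  -- a point of the generic fibre of maximal dimension
  let η : Y := genericPoint Y
  obtain ⟨ξ, hξ, hξm⟩ := (le_dim_fiber_iff f η m).1 (h1 η)
  obtain ⟨W, i, hi, hrange⟩ : ∃ (W : Scheme.{u}) (i : W ⟶ X), IsClosedImmersion i ∧
      Set.range i = closure ({ξ} : Set X) := by
    refine ⟨_, (Scheme.IdealSheafData.vanishingIdeal ⟨closure ({ξ} : Set X), isClosed_closure⟩).subschemeι,
      inferInstance, ?_⟩
    rw [Scheme.IdealSheafData.range_subschemeι, Scheme.IdealSheafData.coe_support_vanishingIdeal]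
    rfl
  have htd : ∀ w : W, td (i ≫ f) w = td f (i w) := by
    intro w
    rw [td_comp, td_of_isPreimmersion i, add_zero]
  have h3 : ∀ y : Y, (m : WithBot ℕ∞) ≤ topologicalKrullDim ((i ≫ f).fiber y) := by
    have hcl := Groth.Agent.S3387.result (i ≫ f) (i ≫ f).isClosedMap m
    have hη : η ∈ {y : Y | (m : WithBot ℕ∞) ≤ topologicalKrullDim ((i ≫ f).fiber y)} := by
      obtain ⟨w, hw⟩ : ξ ∈ Set.range i := by rw [hrange]; exact subset_closure rfl
      refine (le_dim_fiber_iff (i ≫ f) η m).2 ⟨w, ?_, ?_⟩
      · rw [Scheme.Hom.comp_apply, hw, hξ]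
      · rw [htd, hw]; exact hξm
    intro y
    have hy : y ∈ closure ({η} : Set Y) := by rw [genericPoint_closure]; trivial
    exact closure_minimal (Set.singleton_subset_iff.2 hη) hcl hy
  have h4 : ∀ x : X, IsClosed ({x} : Set X) → x ∈ closure ({ξ} : Set X) := by
    intro x hx
    have hy : IsClosed ({f x} : Set Y) := by
      have := f.isClosedMap _ hx
      rwa [Set.image_singleton] at this
    have := hirr (f x) hy
    obtain ⟨w, hw, hwm⟩ := (le_dim_fiber_iff (i ≫ f) (f x) m).1 (h3 (f x))
    have hgen : ∀ x' : X, f x' = f x → f.fiberι (f x) (genericPoint (f.fiber (f x))) ⤳ x' := by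
      intro x' hx'
      obtain ⟨z, rfl⟩ : x' ∈ Set.range (f.fiberι (f x)) := by
        rw [Scheme.Hom.range_fiberι]; exact hx'
      exact (genericPoint_specializes z).map (f.fiberι (f x)).continuous
    set z := f.fiberι (f x) (genericPoint (f.fiber (f x))) with hz
    have hfz : f z = f x := fiberι_mem f (f x) _
    have hiw : i w = z := by
      by_contra hne
      have h5 := td_lt_of_specializes f (hgen (i w) (by rw [← hw, Scheme.Hom.comp_apply])) (Ne.symm hne)
        (by rw [hfz, ← hw, Scheme.Hom.comp_apply])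
      have h6 := (dim_fiber_le_iff f (f x) m).1 (h2 (f x)) z hfz
      rw [htd] at hwm
      omega
    have hzT : z ∈ closure ({ξ} : Set X) := by
      rw [← hrange]; exact ⟨w, hiw⟩
    exact (hgen x rfl).mem_closed isClosed_closure hzT
  have h5 : closure ({ξ} : Set X) = Set.univ := eq_univ_of_closedPoints isClosed_closure h4
  constructor
  · have : IsIrreducible (Set.univ : Set X) := by
      rw [← h5]; exact isIrreducible_singleton.closure
    exact (irreducibleSpace_def _).2 this
  · have h6 : topologicalKrullDim X = (td pX ξ : ℕ) := by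
      have := dim_closure pX ξ
      rw [h5] at this
      rw [← this]
      exact (IsHomeomorph.topologicalKrullDim_eq _ (Homeomorph.Set.univ X).isHomeomorph).symm
    have h7 : topologicalKrullDim Y = (td pY η : ℕ) := by
      have := dim_closure pY η
      rw [genericPoint_closure] at this
      rw [← this]
      exact (IsHomeomorph.topologicalKrullDim_eq _ (Homeomorph.Set.univ Y).isHomeomorph).symm
    have h8 : td f ξ = m := le_antisymm ((dim_fiber_le_iff f η m).1 (h2 η) ξ hξ) hξm
    have h9 : td pX ξ = td pY η + m := by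
      subst hf
      rw [td_comp, h8, hξ]
    rw [h6, h7, h9, Nat.cast_add]

end K657.IrrFib
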