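import Groth.Agent.ProjDeg.K657.HilbMult
import Mathlib.GroupTheory.CosetCover
import Mathlib.RingTheory.Ideal.MinimalPrime.Noetherian

/-!
# Generic linear sections of homogeneous ideals, and chains of homogeneous primes
-/

set_option autoImplicit false

universe u v

namespace K657.LinForms

open MvPolynomial Module K657.HilbFun K657.PolyDiff K657.HilbDim K657.HilbMult

attribute [local instance] MvPolynomial.gradedAlgebra

variable {k : Type u} [Field k] {σ : Type v} [Finite σ]

omit [Finite σ] in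
/-- Over an infinite field, a linear form avoiding finitely many ideals that contain not all
variables. -/
theorem exists_linear_notMem [Infinite k] {ι : Type*} [Finite ι] (q : ι → Ideal (MvPolynomial σ k))
    (hq : ∀ i, ¬ irr k σ ≤ q i) :
    ∃ h : MvPolynomial σ k, h.IsHomogeneous 1 ∧ ∀ i, h ∉ q i := by
  by_contra hcon
  push Not at hcon
  let W : ι → Submodule k (homogeneousSubmodule σ k 1) := fun i =>
    ((q i).restrictScalars k).comap (homogeneousSubmodule σ k 1).subtype
  have hcov : ⋃ i, (W i : Set (homogeneousSubmodule σ k 1)) = Set.univ := by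
    rw [Set.eq_univ_iff_forall]
    rintro ⟨h, hh⟩
    obtain ⟨i, hi⟩ := hcon h hh
    exact Set.mem_iUnion.mpr ⟨i, hi⟩
  obtain ⟨i, hi⟩ := Subspace.exists_eq_top_of_iUnion_eq_univ hcov
  refine hq i (irr_le_of_X_mem fun j => ?_)
  have : (⟨X j, isHomogeneous_X k j⟩ : homogeneousSubmodule σ k 1) ∈ W i := by rw [hi]; trivial
  exact this

/-- Generic linear form drops the dimension. -/
theorem exists_linear_drop [Infinite k] (I : Ideal (MvPolynomial σ k))
    (hI : I.IsHomogeneous (homogeneousSubmodule σ k)) (s : ℕ)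
    (hdim : ringKrullDim (MvPolynomial σ k ⧸ I) ≤ ((s + 1 : ℕ) : WithBot ℕ∞)) :
    ∃ h : MvPolynomial σ k, h.IsHomogeneous 1 ∧
      ringKrullDim (MvPolynomial σ k ⧸ I ⊔ Ideal.span {h}) ≤ ((s : ℕ) : WithBot ℕ∞) := by
  have hfin : (I.minimalPrimes).Finite := Ideal.finite_minimalPrimes_of_isNoetherianRing _ I
  let ι := {q : Ideal (MvPolynomial σ k) // q ∈ I.minimalPrimes ∧ q ≠ irr k σ}
  have hι : Finite ι := by
    have : Finite I.minimalPrimes := hfin
    exact Finite.of_injective (fun x : ι => (⟨x.1, x.2.1⟩ : I.minimalPrimes))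
      (fun x y hxy => Subtype.ext (by simpa using hxy))
  obtain ⟨h, hh, hn⟩ := exists_linear_notMem (fun x : ι => x.1) (fun x hle => by
    have hx : x.1.IsPrime := x.2.1.1.1
    exact x.2.2 (isMaximal_irr.eq_of_le hx.ne_top hle).symm)
  refine ⟨h, hh, ?_⟩
  rw [ringKrullDim_quotient, Order.krullDim]
  refine iSup_le fun l => ?_
  set p := l.head.1.asIdeal with hp
  have hpp : p.IsPrime := l.head.1.isPrime
  have hle : I ⊔ Ideal.span {h} ≤ p := l.head.2
  -- it suffices to bound `dim R/p`
  have h1 : (l.length : WithBot ℕ∞) ≤ ringKrullDim (MvPolynomial σ k ⧸ p) := by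
    rw [ringKrullDim_quotient]
    have hl : ∀ i, (l i).1 ∈ PrimeSpectrum.zeroLocus (p : Set (MvPolynomial σ k)) := fun i =>
      (show l.head.1.asIdeal ≤ (l i).1.asIdeal from l.monotone (Fin.zero_le i))
    let l' : LTSeries (PrimeSpectrum.zeroLocus (p : Set (MvPolynomial σ k))) :=
      { length := l.length
        toFun := fun i => ⟨(l i).1, hl i⟩
        step := fun i => l.step i }
    exact Order.LTSeries.length_le_krullDim l'
  refine h1.trans ?_
  obtain ⟨q, hq, hqp⟩ := Ideal.exists_minimalPrimes_le (le_sup_left.trans hle)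
  have hqpr : q.IsPrime := hq.1.1
  by_cases hqi : q = irr k σ
  · have hpi : p = irr k σ := by
      rw [hqi] at hqp
      exact (isMaximal_irr.eq_of_le hpp.ne_top hqp).symm
    rw [hpi]
    have : (irr k σ).IsMaximal := isMaximal_irr
    let := Ideal.Quotient.field (irr k σ)
    rw [ringKrullDim_eq_zero_of_field]
    exact_mod_cast Nat.zero_le s
  · have hlt : q < p := by
      refine lt_of_le_of_ne hqp ?_
      rintro rfl
      exact hn ⟨_, hq, hqi⟩ (hle (Submodule.mem_sup_right (Ideal.mem_span_singleton_self h)))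
    have h2 := ringKrullDim_quotient_add_one_le_of_lt hlt
    have h3 := h2.trans ((ringKrullDim_quotient_anti hq.1.2).trans hdim)
    rw [ENat.WithBot.add_one_le_natCast_iff, Nat.cast_succ, ENat.WithBot.lt_add_one_iff] at h3
    exact h3

/-- The irrelevant ideal is in the radical of a homogeneous ideal with dimension `≤ 0`. -/
theorem exists_irr_pow_le {I : Ideal (MvPolynomial σ k)}
    (hI : I.IsHomogeneous (homogeneousSubmodule σ k))
    (hdim : ringKrullDim (MvPolynomial σ k ⧸ I) ≤ 0) : ∃ N : ℕ, irr k σ ^ N ≤ I := by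
  have h1 : irr k σ ≤ I.radical := by
    rw [Ideal.radical_eq_sInf]
    refine le_sInf fun p hp => ?_
    obtain ⟨hle, hpp⟩ := hp
    have hpm : p.IsMaximal := by
      obtain ⟨m, hm, hle'⟩ := Ideal.exists_le_maximal p hpp.ne_top
      rcases hle'.eq_or_lt with rfl | hlt
      · exact hm
      · exfalso
        have h2 := ringKrullDim_quotient_add_one_le_of_lt hlt
        have h3 := h2.trans ((ringKrullDim_quotient_anti hle).trans hdim)
        rw [ENat.WithBot.add_one_le_zero_iff] at h3
        have : Nontrivial (MvPolynomial σ k ⧸ m) := Ideal.Quotient.nontrivial_iff.mpr hm.ne_top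
        have h4 := ringKrullDim_nonneg_of_nontrivial (R := MvPolynomial σ k ⧸ m)
        rw [h3] at h4
        simp at h4
    obtain ⟨q, hq, hqp⟩ := Ideal.exists_minimalPrimes_le hle
    have hqpr : q.IsPrime := hq.1.1
    have hqh := isHomogeneous_of_mem_minimalPrimes hI hq
    rcases hqp.eq_or_lt with rfl | hlt
    · exact (hpm.eq_of_le isMaximal_irr.ne_top (le_irr hqh hqpr.ne_top)).symm.le
    · exfalso
      have h2 := ringKrullDim_quotient_add_one_le_of_lt hlt
      have h3 := h2.trans ((ringKrullDim_quotient_anti hq.1.2).trans hdim)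
      rw [ENat.WithBot.add_one_le_zero_iff] at h3
      have : Nontrivial (MvPolynomial σ k ⧸ p) := Ideal.Quotient.nontrivial_iff.mpr hpp.ne_top
      have h4 := ringKrullDim_nonneg_of_nontrivial (R := MvPolynomial σ k ⧸ p)
      rw [h3] at h4
      simp at h4
  exact Ideal.exists_pow_le_of_le_radical_of_fg h1 (IsNoetherian.noetherian _)

theorem exists_linearForms [Infinite k] (s : ℕ) (I : Ideal (MvPolynomial σ k))
    (hI : I.IsHomogeneous (homogeneousSubmodule σ k))
    (hdim : ringKrullDim (MvPolynomial σ k ⧸ I) ≤ ((s : ℕ) : WithBot ℕ∞)) :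
    ∃ h : Fin s → MvPolynomial σ k, (∀ i, (h i).IsHomogeneous 1) ∧
      ∃ N : ℕ, irr k σ ^ N ≤ I ⊔ Ideal.span (Set.range h) := by
  induction s generalizing I with
  | zero =>
    obtain ⟨N, hN⟩ := exists_irr_pow_le hI (by exact_mod_cast hdim)
    exact ⟨Fin.elim0, fun i => i.elim0, N, hN.trans le_sup_left⟩
  | succ s ih =>
    obtain ⟨h₀, hh₀, hd⟩ := exists_linear_drop I hI s hdim
    obtain ⟨h, hh, N, hN⟩ := ih _ (isHomogeneous_sup hI hh₀) hd
    refine ⟨Fin.cons h₀ h, ?_, N, hN.trans ?_⟩
    · intro i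
      refine Fin.cases ?_ (fun j => ?_) i
      · exact hh₀
      · exact hh j
    · rw [sup_assoc, ← Ideal.span_union]
      refine sup_le_sup_left (Ideal.span_mono ?_) _
      rintro x (rfl | ⟨j, rfl⟩)
      · exact ⟨0, rfl⟩
      · exact ⟨j.succ, rfl⟩

omit [Finite σ] in
theorem irr_eq_span : irr k σ = Ideal.span (Set.range (X : σ → MvPolynomial σ k)) := by
  refine le_antisymm (irr_le_of_X_mem fun i => Ideal.subset_span ⟨i, rfl⟩) ?_
  rw [Ideal.span_le]
  rintro _ ⟨i, rfl⟩
  exact mem_irr_of_isHomogeneous (isHomogeneous_X k i) one_pos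

/-- A chain of relevant homogeneous primes of the maximal length. -/
theorem exists_chain (s : ℕ) (p : Ideal (MvPolynomial σ k)) [hp : p.IsPrime]
    (hph : p.IsHomogeneous (homogeneousSubmodule σ k))
    (hdim : ringKrullDim (MvPolynomial σ k ⧸ p) = ((s + 1 : ℕ) : WithBot ℕ∞)) :
    ∃ l : LTSeries {q : Ideal (MvPolynomial σ k) // q.IsPrime ∧
      q.IsHomogeneous (homogeneousSubmodule σ k) ∧ ¬ irr k σ ≤ q}, l.length = s ∧
      l.head.1 = p := by
  have hne : p ≠ irr k σ := by
    rintro rfl
    have : (irr k σ).IsMaximal := isMaximal_irr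
    let := Ideal.Quotient.field (irr k σ)
    rw [ringKrullDim_eq_zero_of_field] at hdim
    have : (0 : ℕ) = s + 1 := by exact_mod_cast hdim
    omega
  have hirr : ¬ irr k σ ≤ p := fun h => hne (isMaximal_irr.eq_of_le hp.ne_top h).symm
  induction s generalizing p with
  | zero => exact ⟨RelSeries.singleton _ ⟨p, hp, hph, hirr⟩, rfl, rfl⟩
  | succ s ih =>
    obtain ⟨i, hi⟩ := exists_X_notMem hph hp.ne_top hne
    have hXi : (X i : MvPolynomial σ k).IsHomogeneous 1 := isHomogeneous_X k i
    have hne' : p ⊔ Ideal.span {(X i : MvPolynomial σ k)} ≠ ⊤ := by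
      intro h
      have h1 : p ⊔ Ideal.span {(X i : MvPolynomial σ k)} ≤ irr k σ :=
        sup_le (le_irr hph hp.ne_top)
          ((Ideal.span_singleton_le_iff_mem _).mpr (mem_irr_of_isHomogeneous hXi one_pos))
      rw [h] at h1
      exact (isMaximal_irr (k := k) (σ := σ)).ne_top (top_le_iff.mp h1)
    obtain ⟨m, hm, hle⟩ := Ideal.exists_le_maximal _ hne'
    obtain ⟨q, hq, -⟩ := Ideal.exists_minimalPrimes_le hle
    have hqp : q.IsPrime := hq.1.1
    have hqh := isHomogeneous_of_mem_minimalPrimes (isHomogeneous_sup hph hXi) hq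
    have h1 := ringKrullDim_minimalPrimes_add_one hi hq
    have h2 : ringKrullDim (MvPolynomial σ k ⧸ q) = ((s + 1 : ℕ) : WithBot ℕ∞) := by
      have h3 : ringKrullDim (MvPolynomial σ k ⧸ q) + 1 = ((s + 1 : ℕ) : WithBot ℕ∞) + 1 := by
        rw [h1, hdim]; push_cast; rfl
      exact ENat.WithBot.add_one_cancel.mp h3
    have hqne : q ≠ irr k σ := by
      rintro rfl
      have : (irr k σ).IsMaximal := isMaximal_irr
      let := Ideal.Quotient.field (irr k σ)
      rw [ringKrullDim_eq_zero_of_field] at h2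
      have : (0 : ℕ) = s + 1 := by exact_mod_cast h2
      omega
    have hqirr : ¬ irr k σ ≤ q := fun h => hqne (isMaximal_irr.eq_of_le hqp.ne_top h).symm
    obtain ⟨l, hl, hlh⟩ := ih q hqh h2 hqne hqirr
    have hlt : p < q := by
      refine lt_of_le_of_ne (le_sup_left.trans hq.1.2) ?_
      rintro rfl
      exact hi (hq.1.2 (Submodule.mem_sup_right (Ideal.mem_span_singleton_self _)))
    have hlt' : (⟨p, hp, hph, hirr⟩ : {q : Ideal (MvPolynomial σ k) // q.IsPrime ∧
        q.IsHomogeneous (homogeneousSubmodule σ k) ∧ ¬ irr k σ ≤ q}) < l.head := by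
      rw [← Subtype.coe_lt_coe, hlh]
      exact hlt
    exact ⟨l.cons ⟨p, hp, hph, hirr⟩ hlt', by simp [hl], by simp⟩

end K657.LinForms
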