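import Groth.Agent.Ega2.H295.PnCoord

/-!
# Rational points of projective space in the standard charts
-/

set_option autoImplicit false

universe u

namespace K657.PnPt

open CategoryTheory CategoryTheory.Limits AlgebraicGeometry TopologicalSpace IsLocalRing
open Groth.Agent.VarietyB Groth.Agent.VarietyB.ProjGlue
open Groth.Agent.Ega2.H295.PnUniq

attribute [local instance] MvPolynomial.gradedAlgebra

variable {k : Type u} [Field k] {I : Type}

/-- The linear form with coefficients `c`. -/
noncomputable def lin [Fintype I] (c : I → k) : MvPolynomial I k := ∑ j, MvPolynomial.C (c j) * MvPolynomial.X j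

/-- `X_j - y X_i`. -/
noncomputable def dif (i : I) (y : I → k) (j : I) : MvPolynomial I k :=
  MvPolynomial.X j - MvPolynomial.C (y j) * MvPolynomial.X i

theorem dif_eq_lin [Fintype I] [DecidableEq I] (i : I) (y : I → k) (j : I) :
    dif i y j = lin (Pi.single j 1 - Pi.single i (y j)) := by
  simp only [dif, lin, Pi.sub_apply, map_sub, sub_mul, Finset.sum_sub_distrib]
  congr 1
  · rw [Finset.sum_eq_single j]
    · simp
    · intro b _ hb; simp [hb]
    · simp
  · rw [Finset.sum_eq_single i]
    · simp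
    · intro b _ hb; simp [hb]
    · simp

theorem dpHom_dif (i : I) (y : I → k) (j : I) : dpHom I k i (dif i y j) =
    ProjStd.ratio I k i j - CoordData.baseHom (ProjStd.toSpec I k) (Dp I k i) (y j) := by
  have h1 : ProjStd.ratio I k i i = 1 := (ProjStd.stdData I k).f_self i
  rw [dif, map_sub, map_mul, dpHom_X, dpHom_X, dpHom_C, h1, mul_one]

/-- Every function on `D_+(X_i)` is constant modulo the `X_j / X_i - y_j`. -/
theorem exists_sub_mem (i : I) (y : I → k) (s : Γ(Proj (MvPolynomial.homogeneousSubmodule I k), Dp I k i)) :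
    ∃ a : k, s - CoordData.baseHom (ProjStd.toSpec I k) (Dp I k i) a ∈
      Ideal.span (Set.range fun j => dpHom I k i (dif i y j)) := by
  obtain ⟨p, rfl⟩ := dpHom_surjective i s
  refine ⟨MvPolynomial.eval y p, ?_⟩
  set J := Ideal.span (Set.range fun j => dpHom I k i (dif i y j)) with hJ
  rw [← Ideal.Quotient.eq]
  have key : (Ideal.Quotient.mk J).comp (dpHom I k i) =
      (Ideal.Quotient.mk J).comp ((CoordData.baseHom (ProjStd.toSpec I k) (Dp I k i)).comp
        (MvPolynomial.eval y)) := by
    apply MvPolynomial.ringHom_ext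
    · intro a
      rw [RingHom.comp_apply, RingHom.comp_apply, RingHom.comp_apply, dpHom_C, MvPolynomial.eval_C]
    · intro j
      rw [RingHom.comp_apply, RingHom.comp_apply, RingHom.comp_apply, dpHom_X, MvPolynomial.eval_X,
        Ideal.Quotient.eq, ← dpHom_dif]
      exact Ideal.subset_span ⟨j, rfl⟩
  exact congr($key p)

theorem exists_mul_germ {X : Scheme.{u}} {U : X.Opens} (hU : IsAffineOpen U) (x : X) (hx : x ∈ U)
    (b : X.presheaf.stalk x) : ∃ s t : Γ(X, U), IsUnit (X.presheaf.germ U x hx t) ∧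
      b * X.presheaf.germ U x hx t = X.presheaf.germ U x hx s := by
  let := TopCat.Presheaf.algebra_section_stalk X.presheaf ⟨x, hx⟩
  have hloc : IsLocalization (hU.primeIdealOf ⟨x, hx⟩).asIdeal.primeCompl (X.presheaf.stalk x) :=
    hU.isLocalization_stalk ⟨x, hx⟩
  obtain ⟨⟨s, t⟩, hst⟩ := IsLocalization.surj (hU.primeIdealOf ⟨x, hx⟩).asIdeal.primeCompl b
  exact ⟨s, t, IsLocalization.map_units _ t, hst⟩

theorem mem_primeIdealOf {X : Scheme.{u}} {U : X.Opens} (hU : IsAffineOpen U) (x : X) (hx : x ∈ U)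
    (s : Γ(X, U)) : s ∈ (hU.primeIdealOf ⟨x, hx⟩).asIdeal ↔ x ∉ X.basicOpen s := by
  rw [hU.primeIdealOf_eq_map_closedPoint, Scheme.mem_basicOpen _ _ x hx]
  rfl

variable {x : Proj (MvPolynomial.homogeneousSubmodule I k)} {i : I} {y : I → k}

/-- The germs of the functions at the point with coordinates `y`. -/
theorem germ_mem_iff (hx : x ∈ Dp I k i)
    (hy : ∀ j, x ∉ (Proj (MvPolynomial.homogeneousSubmodule I k)).basicOpen (dpHom I k i (dif i y j)))
    (s : Γ(Proj (MvPolynomial.homogeneousSubmodule I k), Dp I k i)) :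
    x ∉ (Proj (MvPolynomial.homogeneousSubmodule I k)).basicOpen s ↔ 
      s ∈ Ideal.span (Set.range fun j => dpHom I k i (dif i y j)) := by
  have hmem : ∀ s, x ∉ (Proj (MvPolynomial.homogeneousSubmodule I k)).basicOpen s ↔
      s ∈ (maximalIdeal ((Proj (MvPolynomial.homogeneousSubmodule I k)).presheaf.stalk x)).comap
        ((Proj (MvPolynomial.homogeneousSubmodule I k)).presheaf.germ _ x hx).hom := by
    intro s
    rw [Ideal.mem_comap, mem_maximalIdeal, mem_nonunits_iff, Scheme.mem_basicOpen _ _ x hx]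
  have hle : Ideal.span (Set.range fun j => dpHom I k i (dif i y j)) ≤
      (maximalIdeal ((Proj (MvPolynomial.homogeneousSubmodule I k)).presheaf.stalk x)).comap
        ((Proj (MvPolynomial.homogeneousSubmodule I k)).presheaf.germ _ x hx).hom := by
    rw [Ideal.span_le]
    rintro _ ⟨j, rfl⟩
    exact (hmem _).1 (hy j)
  refine ⟨fun hs => ?_, fun hs => (hmem s).2 (hle hs)⟩
  obtain ⟨a, ha⟩ := exists_sub_mem i y s
  have h1 := Ideal.sub_mem _ ((hmem s).1 hs) (hle ha)
  rw [sub_sub_cancel] at h1
  have ha0 : a = 0 := by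
    by_contra ha0
    have hu : IsUnit (CoordData.baseHom (ProjStd.toSpec I k) (Dp I k i) a) := (isUnit_iff_ne_zero.2 ha0).map _
    rw [Ideal.mem_comap, mem_maximalIdeal, mem_nonunits_iff] at h1
    exact h1 (hu.map _)
  rw [ha0, map_zero, sub_zero] at ha
  exact ha

/-- The maximal ideal of the point with coordinates `y`. -/
theorem maximalIdeal_eq_span (hx : x ∈ Dp I k i)
    (hy : ∀ j, x ∉ (Proj (MvPolynomial.homogeneousSubmodule I k)).basicOpen (dpHom I k i (dif i y j))) :
    maximalIdeal ((Proj (MvPolynomial.homogeneousSubmodule I k)).presheaf.stalk x) =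
      Ideal.span (Set.range fun j => 
        (Proj (MvPolynomial.homogeneousSubmodule I k)).presheaf.germ _ x hx (dpHom I k i (dif i y j))) := by
  have hU : IsAffineOpen (Dp I k i) := ProjStd.isAffineOpen_U I k i
  apply le_antisymm
  · intro b hb
    obtain ⟨s, t, ht, hst⟩ := exists_mul_germ hU x hx b
    have hs : x ∉ (Proj (MvPolynomial.homogeneousSubmodule I k)).basicOpen s := by
      rw [Scheme.mem_basicOpen _ _ x hx, ← mem_nonunits_iff, ← mem_maximalIdeal, ← hst]
      exact Ideal.mul_mem_right _ _ hb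
    rw [germ_mem_iff hx hy] at hs
    have hs' := Ideal.mem_map_of_mem
      ((Proj (MvPolynomial.homogeneousSubmodule I k)).presheaf.germ _ x hx).hom hs
    rw [Ideal.map_span, ← Set.range_comp] at hs'
    obtain ⟨v, hv⟩ := ht.exists_right_inv
    have : b = (Proj (MvPolynomial.homogeneousSubmodule I k)).presheaf.germ _ x hx s * v := by
      rw [← hst, mul_assoc, hv, mul_one]
    rw [this]
    exact Ideal.mul_mem_right _ _ hs'
  · rw [Ideal.span_le]
    rintro _ ⟨j, rfl⟩
    have := hy j
    rw [Scheme.mem_basicOpen _ _ x hx] at this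
    exact (mem_maximalIdeal _).2 this

theorem eq_of_dif {x' : Proj (MvPolynomial.homogeneousSubmodule I k)} (hx : x ∈ Dp I k i)
    (hy : ∀ j, x ∉ (Proj (MvPolynomial.homogeneousSubmodule I k)).basicOpen (dpHom I k i (dif i y j)))
    (hx' : x' ∈ Dp I k i)
    (hy' : ∀ j, x' ∉ (Proj (MvPolynomial.homogeneousSubmodule I k)).basicOpen (dpHom I k i (dif i y j))) :
    x = x' := by
  have hU : IsAffineOpen (Dp I k i) := ProjStd.isAffineOpen_U I k i
  have h := fun s => (germ_mem_iff hx hy s).trans (germ_mem_iff hx' hy' s).symm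
  have h1 : hU.primeIdealOf ⟨x, hx⟩ = hU.primeIdealOf ⟨x', hx'⟩ := by
    apply PrimeSpectrum.ext
    ext s
    rw [mem_primeIdealOf, mem_primeIdealOf]
    exact h s
  have h2 := congrArg hU.fromSpec h1
  rwa [hU.fromSpec_primeIdealOf, hU.fromSpec_primeIdealOf] at h2

end K657.PnPt
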