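import Groth.Agent.ProjDeg.K657.LinForms
import Groth.Agent.ProjDeg.K657.TopDim
import Groth.Agent.ProjDeg.K657.PnPt

/-!
# Linear forms without common zero on a closed subset of `P^n`
-/

set_option autoImplicit false

universe u v

namespace K657.NormForms

open MvPolynomial K657.HilbDim K657.HilbMult K657.LinForms

attribute [local instance] MvPolynomial.gradedAlgebra

theorem ringKrullDim_quotient_le {R : Type*} [CommRing R] (I : Ideal R) (B : WithBot ℕ∞)
    (h : ∀ q ∈ I.minimalPrimes, ringKrullDim (R ⧸ q) ≤ B) : ringKrullDim (R ⧸ I) ≤ B := by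
  rw [ringKrullDim_quotient, Order.krullDim]
  refine iSup_le fun l => ?_
  have hle : I ≤ l.head.1.asIdeal := l.head.2
  have hpp : l.head.1.asIdeal.IsPrime := l.head.1.isPrime
  obtain ⟨q, hq, hqp⟩ := Ideal.exists_minimalPrimes_le hle
  refine le_trans ?_ (h q hq)
  rw [ringKrullDim_quotient]
  have hl : ∀ i, (l i).1 ∈ PrimeSpectrum.zeroLocus (q : Set R) := fun i =>
    hqp.trans (show l.head.1.asIdeal ≤ (l i).1.asIdeal from l.monotone (Fin.zero_le i))
  let l' : LTSeries (PrimeSpectrum.zeroLocus (q : Set R)) :=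
    { length := l.length
      toFun := fun i => ⟨(l i).1, hl i⟩
      step := fun i => l.step i }
  exact Order.LTSeries.length_le_krullDim l'

variable {k : Type u} [Field k] {n : ℕ}

theorem ringKrullDim_le (d : ℕ) (Z : Set (ProjectiveSpectrum (homogeneousSubmodule (Fin (n + 1)) k)))
    (hZ : IsClosed Z) (hdim : topologicalKrullDim Z ≤ (d : WithBot ℕ∞)) :
    ringKrullDim (MvPolynomial (Fin (n + 1)) k ⧸ (ProjectiveSpectrum.vanishingIdeal Z).toIdeal) ≤
      ((d + 1 : ℕ) : WithBot ℕ∞) := by
  refine ringKrullDim_quotient_le _ _ fun q hq => ?_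
  have hqh := isHomogeneous_of_mem_minimalPrimes (ProjectiveSpectrum.vanishingIdeal Z).isHomogeneous hq
  have hqp : q.IsPrime := hq.1.1
  by_cases hrel : irr k (Fin (n + 1)) ≤ q
  · have : q = irr k (Fin (n + 1)) := (isMaximal_irr.eq_of_le hqp.ne_top hrel).symm
    rw [this]
    have : (irr k (Fin (n + 1))).IsMaximal := isMaximal_irr
    let := Ideal.Quotient.field (irr k (Fin (n + 1)))
    rw [ringKrullDim_eq_zero_of_field]
    exact_mod_cast Nat.zero_le _
  · rw [TopDim.ringKrullDim_eq q hqh hrel]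
    have hsub : ProjectiveSpectrum.zeroLocus (homogeneousSubmodule (Fin (n + 1)) k)
        (q : Set (MvPolynomial (Fin (n + 1)) k)) ⊆ Z := by
      have h1 : ProjectiveSpectrum.zeroLocus (homogeneousSubmodule (Fin (n + 1)) k)
        ((ProjectiveSpectrum.vanishingIdeal Z : HomogeneousIdeal (homogeneousSubmodule (Fin (n + 1)) k)) :
          Set (MvPolynomial (Fin (n + 1)) k)) = Z := by
        rw [ProjectiveSpectrum.zeroLocus_vanishingIdeal_eq_closure, hZ.closure_eq]
      rw [← h1]
      exact ProjectiveSpectrum.zeroLocus_anti_mono _ hq.1.2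
    have h2 : topologicalKrullDim (ProjectiveSpectrum.zeroLocus (homogeneousSubmodule (Fin (n + 1)) k)
        (q : Set (MvPolynomial (Fin (n + 1)) k))) ≤ (d : WithBot ℕ∞) :=
      ((Topology.IsEmbedding.inclusion hsub).isInducing.topologicalKrullDim_le).trans hdim
    rw [Nat.cast_succ]
    gcongr

/-- On a closed subset of dimension at most `d` some `d + 1` linear forms have no common zero. -/
theorem exists_forms [Infinite k] (d : ℕ) (Z : Set (ProjectiveSpectrum (homogeneousSubmodule (Fin (n + 1)) k)))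
    (hZ : IsClosed Z) (hdim : topologicalKrullDim Z ≤ (d : WithBot ℕ∞)) :
    ∃ c : Fin (d + 1) → Fin (n + 1) → k, ∀ x ∈ Z, ∃ i, PnPt.lin (c i) ∉ x.asHomogeneousIdeal := by
  obtain ⟨h, hh, N, hN⟩ := exists_linearForms (d + 1) (ProjectiveSpectrum.vanishingIdeal Z).toIdeal
    (ProjectiveSpectrum.vanishingIdeal Z).isHomogeneous (ringKrullDim_le d Z hZ hdim)
  have hc : ∀ i, ∃ c : Fin (n + 1) → k, PnPt.lin c = h i := by
    intro i
    have h1 : h i ∈ homogeneousSubmodule (Fin (n + 1)) k 1 := hh i
    rw [homogeneousSubmodule_one_eq_span_X, Submodule.mem_span_range_iff_exists_fun] at h1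
    obtain ⟨c, hc⟩ := h1
    refine ⟨c, ?_⟩
    rw [← hc, PnPt.lin]
    exact Finset.sum_congr rfl fun j _ => (MvPolynomial.smul_eq_C_mul _ _).symm
  choose c hc using hc
  refine ⟨c, fun x hx => ?_⟩
  by_contra hcon
  push Not at hcon
  have h1 : (ProjectiveSpectrum.vanishingIdeal Z).toIdeal ⊔ Ideal.span (Set.range h) ≤
      x.asHomogeneousIdeal.toIdeal := by
    refine sup_le ?_ ?_
    · have : (x : ProjectiveSpectrum (homogeneousSubmodule (Fin (n + 1)) k)) ∈
          ProjectiveSpectrum.zeroLocus (homogeneousSubmodule (Fin (n + 1)) k)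
          ((ProjectiveSpectrum.vanishingIdeal Z : HomogeneousIdeal (homogeneousSubmodule (Fin (n + 1)) k)) :
          Set (MvPolynomial (Fin (n + 1)) k)) := by
        rw [ProjectiveSpectrum.zeroLocus_vanishingIdeal_eq_closure, hZ.closure_eq]
        exact hx
      exact this
    · rw [Ideal.span_le]
      rintro _ ⟨i, rfl⟩
      rw [← hc i]
      exact hcon i
  have h2 : irr k (Fin (n + 1)) ≤ x.asHomogeneousIdeal.toIdeal := by
    have h3 := hN.trans h1
    rcases Nat.eq_zero_or_pos N with h0 | h0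
    · rw [h0, pow_zero, Ideal.one_eq_top, top_le_iff] at h3
      exact absurd h3 x.isPrime.ne_top
    · exact (x.isPrime.pow_le_iff h0.ne').1 h3
  exact x.not_irrelevant_le ((TopDim.irrelevant_toIdeal (k := k)).le.trans h2)

end K657.NormForms
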