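import Groth.Agent.ProjDeg.K657.NormMap
import Groth.Agent.ProjDeg.K657.NormForms
import Groth.Agent.ProjDeg.K657.PnDim

/-!
# Noether normalization for projective schemes
-/

set_option autoImplicit false

universe u

namespace K657.NormMain

open CategoryTheory CategoryTheory.Limits AlgebraicGeometry TopologicalSpace
open K657.SepGerm Groth.Agent.VarietyB

attribute [local instance] MvPolynomial.gradedAlgebra

theorem main (k : Type u) [Field k] [Infinite k]
    (N d : ℕ) (Y : Scheme.{u}) (f : Y ⟶ Spec (CommRingCat.of k))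
    (ι : Y ⟶ Proj (MvPolynomial.homogeneousSubmodule (Fin (N + 1)) k)) [IsClosedImmersion ι]
    (hι : ι ≫ ProjStd.toSpec (Fin (N + 1)) k = f)
    (hdim : topologicalKrullDim ↥Y = (d : WithBot ℕ∞)) :
    ∃ π : Y ⟶ Proj (MvPolynomial.homogeneousSubmodule (Fin (d + 1)) k),
      π ≫ ProjStd.toSpec (Fin (d + 1)) k = f ∧ IsFinite π ∧ Function.Surjective π ∧
      Nonempty (LL π ≅ LL ι) := by
  have hclosed : IsClosed (Set.range ι) := ι.isClosedEmbedding.isClosed_range
  have hZ : topologicalKrullDim (Set.range ι) ≤ (d : WithBot ℕ∞) := by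
    rw [← hdim]
    exact (IsHomeomorph.topologicalKrullDim_eq _
      ι.isClosedEmbedding.isEmbedding.toHomeomorph.symm.isHomeomorph).le
  obtain ⟨c, hc⟩ := K657.NormForms.exists_forms (k := k) (n := N) d (Set.range ι) hclosed hZ
  obtain ⟨r, hr, τ, hτ⟩ := K657.NormMap.exists_map (ι := ι) hι c (fun x => by
    obtain ⟨i, hi⟩ := hc (ι x) ⟨x, rfl⟩
    exact ⟨i, hi⟩)
  have hfin := K657.NormMap.isFinite (ι := ι) hι c r hr τ hτ
  exact ⟨r, hr, hfin, K657.PnDim.surjective_of_isFinite r hdim.ge, ⟨τ⟩⟩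

end K657.NormMain
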