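import Groth.Agent.ProjDeg.K657.SepGerm
import Groth.Agent.CycA.MovFinite
import Groth.Agent.S3572
import Groth.Agent.VarietyB.ProjSpaceProper

/-!
# Linear projections from the universal property
-/

set_option autoImplicit false

universe u

namespace K657.NormMap

open CategoryTheory CategoryTheory.Limits AlgebraicGeometry TopologicalSpace IsLocalRing
open Groth.Agent.VarietyB Groth.Agent.VarietyB.ProjGlue
open Groth.Agent.Ega2.H295.PnUniq Groth.Agent.Ega2.H295.PnCoord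
open Groth.Agent.Fdesc.LocGen
open K657.PnPt K657.SepGerm

attribute [local instance] MvPolynomial.gradedAlgebra

variable {k : Type u} [Field k] {X : Scheme.{u}} {n m : ℕ}

theorem basicOpen_dpHom_lin (i : Fin (n + 1)) (c : Fin (n + 1) → k) :
    (Proj (MvPolynomial.homogeneousSubmodule (Fin (n + 1)) k)).basicOpen (dpHom (Fin (n + 1)) k i (lin c)) =
      Dp (Fin (n + 1)) k i ⊓ Proj.basicOpen (MvPolynomial.homogeneousSubmodule (Fin (n + 1)) k) (lin c) := by
  have h := Groth.Agent.CycA.MovFinite.basicOpen_form_std (K := k) i c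
  rw [← Groth.Agent.CycA.MovFinite.hom_lin] at h
  exact h

theorem mem_basicOpen_iff (i : Fin (n + 1)) (c : Fin (n + 1) → k)
    (x : Proj (MvPolynomial.homogeneousSubmodule (Fin (n + 1)) k)) (hx : x ∈ Dp (Fin (n + 1)) k i) :
    x ∈ (Proj (MvPolynomial.homogeneousSubmodule (Fin (n + 1)) k)).basicOpen
      (dpHom (Fin (n + 1)) k i (lin c)) ↔
    x ∈ Proj.basicOpen (MvPolynomial.homogeneousSubmodule (Fin (n + 1)) k) (lin c) := by
  rw [basicOpen_dpHom_lin]
  exact ⟨fun h => h.2, fun h => ⟨hx, h⟩⟩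

variable {pX : X ⟶ Spec (CommRingCat.of k)} {ι : X ⟶ Proj (MvPolynomial.homogeneousSubmodule (Fin (n + 1)) k)}
  (hι : ι ≫ ProjStd.toSpec (Fin (n + 1)) k = pX)

include hι

theorem isGen_lsec (c : Fin (n + 1) → k) : 
    IsGen (res (LL ι) (le_top : ι ⁻¹ᵁ Proj.basicOpen (MvPolynomial.homogeneousSubmodule (Fin (n + 1)) k)
      (lin c) ≤ ⊤) (lsec pX ι c)) := by
  rw [isGen_iff_forall_exists]
  intro x hx
  obtain ⟨i, hi⟩ := exists_mem ι x
  let V : X.Opens := ι ⁻¹ᵁ (Proj (MvPolynomial.homogeneousSubmodule (Fin (n + 1)) k)).basicOpen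
      (dpHom (Fin (n + 1)) k i (lin c))
  have hV1 : V ≤ ι ⁻¹ᵁ Proj.basicOpen (MvPolynomial.homogeneousSubmodule (Fin (n + 1)) k) (lin c) := by
    refine ι.preimage_mono ?_
    rw [basicOpen_dpHom_lin]
    exact inf_le_right
  have hV2 : V ≤ ι ⁻¹ᵁ Dp (Fin (n + 1)) k i := ι.preimage_mono (Scheme.basicOpen_le _ _)
  have hxV : x ∈ V := (mem_basicOpen_iff i c (ι x) hi).2 hx
  refine ⟨V, hV1, hxV, ?_⟩
  rw [res_res]
  have h1 := congrArg (res (LL ι) hV2) (res_lsec pX ι hι i c)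
  rw [res_res, res_smul, res_res] at h1
  rw [h1]
  refine (isGen_res_tsec ι i hV2).unit_smul ?_
  have h2 : V = X.basicOpen (ι.app (Dp (Fin (n + 1)) k i) (dpHom (Fin (n + 1)) k i (lin c))) :=
    Scheme.preimage_basicOpen ι _
  have h3 : IsUnit (X.presheaf.map (homOfLE (X.basicOpen_le (ι.app (Dp (Fin (n + 1)) k i)
    (dpHom (Fin (n + 1)) k i (lin c))))).op (ι.app (Dp (Fin (n + 1)) k i)
    (dpHom (Fin (n + 1)) k i (lin c)))) := RingedSpace.isUnit_res_basicOpen _ _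
  have h4 := h3.map (X.presheaf.map (homOfLE h2.le).op).hom
  have h5 : (X.presheaf.map (homOfLE h2.le).op).hom (X.presheaf.map (homOfLE (X.basicOpen_le
    (ι.app (Dp (Fin (n + 1)) k i) (dpHom (Fin (n + 1)) k i (lin c))))).op (ι.app (Dp (Fin (n + 1)) k i)
    (dpHom (Fin (n + 1)) k i (lin c)))) = ores hV2 (ι.app (Dp (Fin (n + 1)) k i)
    (dpHom (Fin (n + 1)) k i (lin c))) := by
    exact ores_ores (X.basicOpen_le _) h2.le _
  rw [h5] at h4
  exact h4

theorem generatedBy (c : Fin (m + 1) → Fin (n + 1) → k)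
    (hc : ∀ x : X, ∃ i, ι x ∈ Proj.basicOpen (MvPolynomial.homogeneousSubmodule (Fin (n + 1)) k) (lin (c i))) :
    ProjUP.GeneratedBy (LL ι) (fun i => lsec pX ι (c i)) := by
  intro x
  obtain ⟨i, hi⟩ := hc x
  have h1 := Groth.Agent.Ega1.GlobGenPt.span_germ_eq_top (isGen_lsec hι (c i)) x hi
  rw [eq_top_iff, ← h1, Submodule.span_le]
  rintro _ rfl
  refine Submodule.subset_span ⟨i, ?_⟩
  exact (Groth.Agent.Ega1.GlobGenPt.germ_res (LL ι) le_top x hi (lsec pX ι (c i))).symm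

theorem exists_map (c : Fin (m + 1) → Fin (n + 1) → k)
    (hc : ∀ x : X, ∃ i, ι x ∈ Proj.basicOpen (MvPolynomial.homogeneousSubmodule (Fin (n + 1)) k) (lin (c i))) :
    ∃ (r : X ⟶ Proj (MvPolynomial.homogeneousSubmodule (Fin (m + 1)) k)) 
      (_ : r ≫ ProjStd.toSpec (Fin (m + 1)) k = pX) (τ : LL r ≅ LL ι),
      ∀ j, τ.hom.app ⊤ (tsec r j) = lsec pX ι (c j) := by
  have hL : PicF.IsInvertible (LL ι) := by
    rw [isInvertible_iff]
    intro x
    obtain ⟨i, hi⟩ := exists_mem ι x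
    exact ⟨_, _, hi, isGen_res_tsec ι i le_rfl⟩
  exact Groth.Agent.S3572.result (R := k) m pX (LL ι) hL (fun i => lsec pX ι (c i)) (generatedBy hι c hc)

theorem preimage_eq (c : Fin (m + 1) → Fin (n + 1) → k)
    (r : X ⟶ Proj (MvPolynomial.homogeneousSubmodule (Fin (m + 1)) k)) (τ : LL r ≅ LL ι)
    (hτ : ∀ j, τ.hom.app ⊤ (tsec r j) = lsec pX ι (c j)) (j : Fin (m + 1)) :
    r ⁻¹ᵁ Dp (Fin (m + 1)) k j =
      ι ⁻¹ᵁ Proj.basicOpen (MvPolynomial.homogeneousSubmodule (Fin (n + 1)) k) (lin (c j)) := by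
  apply le_antisymm
  · intro x hx
    obtain ⟨i, hi⟩ := exists_mem ι x
    change ι x ∈ Proj.basicOpen (MvPolynomial.homogeneousSubmodule (Fin (n + 1)) k) (lin (c j))
    rw [← mem_basicOpen_iff i (c j) (ι x) hi]
    by_contra hcon
    rw [← germ_mem_iff hι i (c j) x hi] at hcon
    have h1 := (isGen_res_tsec r j (le_refl (r ⁻¹ᵁ Dp (Fin (m + 1)) k j))).app τ.hom
    rw [app_res, hτ] at h1
    have h2 := Groth.Agent.Ega1.GlobGenPt.germ_notMem_smul_top h1 x hx
    rw [Groth.Agent.Ega1.GlobGenPt.germ_res] at h2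
    exact h2 hcon
  · set V := ι ⁻¹ᵁ Proj.basicOpen (MvPolynomial.homogeneousSubmodule (Fin (n + 1)) k) (lin (c j)) with hV
    have h1 := (isGen_lsec hι (c j)).app τ.inv
    rw [app_res, ← hτ j] at h1
    have h2 : τ.inv.app ⊤ (τ.hom.app ⊤ (tsec r j)) = tsec r j := congr(($(τ.hom_inv_id)).app ⊤ (tsec r j))
    rw [h2] at h1
    choose g hg using fun l => h1.exists_eq (res _ (le_top : V ≤ ⊤) (tsec r l))
    exact (ratio_of_rel r j g hg).1

theorem isFinite [IsClosedImmersion ι] (c : Fin (m + 1) → Fin (n + 1) → k)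
    (r : X ⟶ Proj (MvPolynomial.homogeneousSubmodule (Fin (m + 1)) k)) 
    (hr : r ≫ ProjStd.toSpec (Fin (m + 1)) k = pX) (τ : LL r ≅ LL ι)
    (hτ : ∀ j, τ.hom.app ⊤ (tsec r j) = lsec pX ι (c j)) : IsFinite r := by
  have hm : IsProper (ProjStd.toSpec (Fin (m + 1)) k) :=
    Groth.Agent.VarietyB.ProjSpaceProper.isProper_toSpec m k
  have hn : IsProper (ProjStd.toSpec (Fin (n + 1)) k) :=
    Groth.Agent.VarietyB.ProjSpaceProper.isProper_toSpec n k
  rw [IsFinite.iff_isProper_and_isAffineHom]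
  constructor
  · have : IsProper (r ≫ ProjStd.toSpec (Fin (m + 1)) k) := by
      rw [hr, ← hι]; infer_instance
    exact IsProper.of_comp r (ProjStd.toSpec (Fin (m + 1)) k)
  · apply isAffineHom_of_forall_exists_isAffineOpen
    intro x
    have hx : x ∈ ⨆ j, (ProjStd.stdData (Fin (m + 1)) k).U j := by
      rw [(ProjStd.stdData (Fin (m + 1)) k).iSup_U]; trivial
    rw [TopologicalSpace.Opens.mem_iSup] at hx
    obtain ⟨j, hj⟩ := hx
    refine ⟨(ProjStd.stdData (Fin (m + 1)) k).U j, hj, ProjStd.isAffineOpen_U (Fin (m + 1)) k j, ?_⟩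
    change IsAffineOpen (r ⁻¹ᵁ Dp (Fin (m + 1)) k j)
    rw [preimage_eq hι c r τ hτ j]
    exact (Proj.isAffineOpen_basicOpen _ _ (Groth.Agent.CycA.MovFinite.lin_mem (c j)) Nat.one_pos).preimage ι

end K657.NormMap
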