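import Groth.Agent.S2803
import Groth.Agent.CycB.FiberKer
import Mathlib.AlgebraicGeometry.AlgClosed.Basic
import Mathlib.AlgebraicGeometry.Morphisms.Proper

/-!
# Closed immersions over an algebraically closed field from closed points and tangent vectors
-/

set_option autoImplicit false

universe u

namespace K657.PtCrit

open CategoryTheory CategoryTheory.Limits AlgebraicGeometry TopologicalSpace IsLocalRing
open Groth.Agent.CycB.FiberKer

variable {k : Type u} [Field k] [IsAlgClosed k]

/-- The residue field at a closed point is the base field. -/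
theorem bijective_residueFieldMap {F : Scheme.{u}} (p : F ⟶ Spec (CommRingCat.of k))
    [LocallyOfFiniteType p] (c : F) (hc : IsClosed ({c} : Set F)) :
    Function.Bijective (p.residueFieldMap c) := by
  have h1 := Scheme.Hom.SpecMap_residueFieldMap_fromSpecResidueField p c
  rw [← SpecMap_residueFieldIsoBase_inv p c hc] at h1
  have h2 : IsIso ((Spec (CommRingCat.of k)).fromSpecResidueField (p c)) := by
    have hs : Surjective ((Spec (CommRingCat.of k)).fromSpecResidueField (p c)) := by
      refine ⟨fun x => ?_⟩
      have hx : x = p c := Subsingleton.elim _ _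
      rw [hx, ← Set.mem_range, Scheme.range_fromSpecResidueField]
      rfl
    have hcl : IsClosedImmersion ((Spec (CommRingCat.of k)).fromSpecResidueField (p c)) := by
      rw [← isClosed_singleton_iff_isClosedImmersion]
      have : ({p c} : Set (Spec (CommRingCat.of k))) = Set.univ :=
        Set.eq_univ_of_forall fun x => Subsingleton.elim _ _
      rw [this]
      exact isClosed_univ
    exact isIso_of_isClosedImmersion_of_surjective _
  have h3 : IsIso (Spec.map (p.residueFieldMap c)) := by
    have : IsIso (Spec.map (p.residueFieldMap c) ≫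
      (Spec (CommRingCat.of k)).fromSpecResidueField (p c)) := by
      rw [h1]; infer_instance
    exact IsIso.of_isIso_comp_right _ ((Spec (CommRingCat.of k)).fromSpecResidueField (p c))
  exact isIso_SpecMap_iff.mp h3

/-- Over an algebraically closed field every element of the local ring at a closed point is
congruent to the image of an element of the local ring below. -/
theorem exists_sub_mem {F : Scheme.{u}} (p : F ⟶ Spec (CommRingCat.of k)) [LocallyOfFiniteType p]
    (c : F) (hc : IsClosed ({c} : Set F)) (b : F.presheaf.stalk c) :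
    ∃ a : (Spec (CommRingCat.of k)).presheaf.stalk (p c), 
      b - p.stalkMap c a ∈ maximalIdeal (F.presheaf.stalk c) := by
  obtain ⟨x, hx⟩ := (bijective_residueFieldMap p c hc).2 (F.residue c b)
  obtain ⟨a, rfl⟩ := Scheme.residue_surjective _ _ x
  refine ⟨a, ?_⟩
  rw [← IsLocalRing.residue_eq_zero_iff, map_sub, sub_eq_zero]
  have h := congr(($(Scheme.residue_residueFieldMap p c)).hom a)
  change F.residue c b = F.residue c (p.stalkMap c a)
  rw [← hx]
  exact h

/-- A scheme locally of finite type over an algebraically closed field with one closed point, whose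
local ring is a field, is the base. -/
theorem isIso_of_point {F S : Scheme.{u}} (q : F ⟶ S) (pS : S ⟶ Spec (CommRingCat.of k))
    [LocallyOfFiniteType (q ≫ pS)] [Subsingleton S] [IsReduced S]
    (c : F) (hc : IsClosed ({c} : Set F)) (huniq : ∀ c' : F, IsClosed ({c'} : Set F) → c' = c)
    (hfield : maximalIdeal (F.presheaf.stalk c) = ⊥) : IsIso q := by
  have hJ : JacobsonSpace F := LocallyOfFiniteType.jacobsonSpace (q ≫ pS)
  have hsub : ∀ z : F, z = c := by
    intro z
    by_contra hz
    have hU : IsOpen ({c}ᶜ : Set F) := hc.isOpen_compl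
    obtain ⟨c', hc', hc''⟩ := nonempty_inter_closedPoints (Z := ({c}ᶜ : Set F)) ⟨z, hz⟩
      hU.isLocallyClosed
    exact hc' (huniq c' hc'')
  have hss : Subsingleton F := ⟨fun a b => (hsub a).trans (hsub b).symm⟩
  have hsurjstalk : SurjectiveOnStalks q := by
    refine ⟨fun z => ?_⟩
    obtain rfl := hsub z
    intro b
    obtain ⟨a, ha⟩ := exists_sub_mem (q ≫ pS) z hc b
    rw [hfield, Ideal.mem_bot, sub_eq_zero, Scheme.Hom.stalkMap_comp] at ha
    exact ⟨_, ha.symm⟩
  have hcl : IsClosedImmersion q :=
    { isClosedEmbedding := by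
        have hinj : Function.Injective q := Function.injective_of_subsingleton _
        refine Topology.IsClosedEmbedding.of_continuous_injective_isClosedMap q.continuous hinj ?_
        intro Z _
        rcases Set.eq_empty_or_nonempty (q '' Z) with h | h
        · rw [h]; exact isClosed_empty
        · rw [Set.Nonempty.eq_univ h]; exact isClosed_univ }
  have hs : Surjective q := ⟨fun x => ⟨c, Subsingleton.elim _ _⟩⟩
  exact isIso_of_isClosedImmersion_of_surjective q

variable {X Y : Scheme.{u}} (f : X ⟶ Y) (pY : Y ⟶ Spec (CommRingCat.of k))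

/-- Over a closed point `y`, if there is at most one closed point above `y` and the maximal ideal
of `y` generates the maximal ideal there, the fibre is empty or a reduced point. -/
theorem fiber_isEmpty_or_isIso [LocallyOfFiniteType f] [LocallyOfFiniteType pY]
    (y : Y) (hy : IsClosed ({y} : Set Y))
    (hinj : ∀ P Q : X, IsClosed ({P} : Set X) → IsClosed ({Q} : Set X) → f P = y → f Q = y → P = Q)
    (htan : ∀ P : X, IsClosed ({P} : Set X) → f P = y →
      maximalIdeal (X.presheaf.stalk P) ≤
        Ideal.map (f.stalkMap P).hom (maximalIdeal (Y.presheaf.stalk (f P)))) :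
    IsEmpty ↥(f.fiber y) ∨ IsIso (f.fiberToSpecResidueField y) := by
  rcases isEmpty_or_nonempty ↥(f.fiber y) with h | ⟨⟨z⟩⟩
  · exact Or.inl h
  right
  have hi : IsClosedImmersion (f.fiberι y) := by
    have := isClosed_singleton_iff_isClosedImmersion.mp hy
    change IsClosedImmersion (pullback.fst f (Y.fromSpecResidueField y))
    infer_instance
  have hJ : JacobsonSpace (f.fiber y) := inferInstance
  obtain ⟨c, -, hc⟩ := nonempty_inter_closedPoints (Z := (Set.univ : Set (f.fiber y))) ⟨z, trivial⟩
      isOpen_univ.isLocallyClosed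
  have hcl : ∀ c : f.fiber y, IsClosed ({c} : Set (f.fiber y)) →
      IsClosed ({f.fiberι y c} : Set X) := by
    intro c hc
    have := (f.fiberι y).isClosedEmbedding.isClosedMap _ hc
    rwa [Set.image_singleton] at this
  have hP := hcl c hc
  have hfield : maximalIdeal ((f.fiber y).presheaf.stalk c) = ⊥ := by
    rw [eq_bot_iff]
    intro b hb
    obtain ⟨a, rfl⟩ := stalkMap_fiberι_surjective f y c b
    have ha : a ∈ maximalIdeal (X.presheaf.stalk (f.fiberι y c)) := by
      rw [mem_maximalIdeal, mem_nonunits_iff] at hb ⊢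
      exact fun h => hb (h.map ((f.fiberι y).stalkMap c).hom)
    have ha' := htan _ hP (apply_fiberι f y c) ha
    rw [← ker_stalkMap_fiberι] at ha'
    exact ha'
  have hlf : LocallyOfFiniteType (f.fiberToSpecResidueField y ≫ Y.fromSpecResidueField y ≫ pY) := by
    have h1 : f.fiberToSpecResidueField y ≫ Y.fromSpecResidueField y ≫ pY =
        f.fiberι y ≫ f ≫ pY := by
      rw [← Category.assoc, ← Category.assoc]
      congr 1
      exact pullback.condition.symm
    rw [h1]
    infer_instance
  exact isIso_of_point (f.fiberToSpecResidueField y) (Y.fromSpecResidueField y ≫ pY) c hc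
    (fun c' hc' => fiberι_injective f y (hinj _ _ (hcl c' hc') hP (apply_fiberι f y c')
      (apply_fiberι f y c))) hfield

/-- The criterion. -/
theorem isClosedImmersion_of_points [IsProper f] [LocallyOfFiniteType pY]
    (hinj : ∀ P Q : X, IsClosed ({P} : Set X) → IsClosed ({Q} : Set X) → f P = f Q → P = Q)
    (htan : ∀ P : X, IsClosed ({P} : Set X) →
      maximalIdeal (X.presheaf.stalk P) ≤
        Ideal.map (f.stalkMap P).hom (maximalIdeal (Y.presheaf.stalk (f P)))) :
    IsClosedImmersion f := by
  have hJ : JacobsonSpace Y := LocallyOfFiniteType.jacobsonSpace pY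
  have key : ∀ y : Y, IsClosed ({y} : Set Y) → ∃ U : Y.Opens, y ∈ U ∧ IsClosedImmersion (f ∣_ U) := by
    intro y hy
    rw [Groth.Agent.S2803.result f y]
    refine ⟨fiber_isEmpty_or_isIso f pY y hy (fun P Q hP hQ h1 h2 => hinj P Q hP hQ (h1.trans h2.symm))
      (fun P hP _ => htan P hP), ⊤, trivial, ?_⟩
    infer_instance
  let 𝒰 : Set Y.Opens := {U | IsClosedImmersion (f ∣_ U)}
  have hcov : ⨆ U : 𝒰, (U : Y.Opens) = ⊤ := by
    rw [eq_top_iff]
    intro z _
    by_contra hz
    have hZ : IsClosed ((⨆ U : 𝒰, (U : Y.Opens) : Y.Opens) : Set Y)ᶜ :=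
      (⨆ U : 𝒰, (U : Y.Opens) : Y.Opens).2.isClosed_compl
    obtain ⟨y, hy, hy'⟩ := nonempty_inter_closedPoints ⟨z, hz⟩ hZ.isLocallyClosed
    obtain ⟨U, hyU, hU⟩ := key y hy'
    exact hy (Opens.mem_iSup.mpr ⟨⟨U, hU⟩, hyU⟩)
  exact (IsZariskiLocalAtTarget.iff_of_iSup_eq_top (P := @IsClosedImmersion) _ hcov).mpr
    fun U => U.2

end K657.PtCrit
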