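import Groth.Agent.ProjDeg.K657.SepGerm
import Groth.Agent.ProjDeg.K657.PtCrit
import Mathlib.AlgebraicGeometry.Morphisms.FiniteType
import Mathlib.AlgebraicGeometry.Noetherian
import Mathlib.RingTheory.Nakayama

/-!
# Closed immersions into projective space: separating points and tangent vectors
-/

set_option autoImplicit false

universe u

namespace K657.SepCrit

open CategoryTheory CategoryTheory.Limits AlgebraicGeometry TopologicalSpace IsLocalRing
open Groth.Agent.VarietyB Groth.Agent.VarietyB.ProjGlue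
open Groth.Agent.Ega2.H295.PnUniq Groth.Agent.Ega2.H295.PnCoord
open Groth.Agent.Fdesc.LocGen
open K657.PnPt K657.SepGerm

attribute [local instance] MvPolynomial.gradedAlgebra

variable {k : Type u} [Field k] {X : Scheme.{u}} {n : ℕ}

theorem stalk_surj (x : Spec (CommRingCat.of k)) (a : (Spec (CommRingCat.of k)).presheaf.stalk x) :
    ∃ r : k, a = (Spec (CommRingCat.of k)).presheaf.germ ⊤ x trivial
      ((Scheme.ΓSpecIso (CommRingCat.of k)).inv r) := by
  obtain ⟨s, t, ht, hst⟩ := PnPt.exists_mul_germ (isAffineOpen_top (Spec (CommRingCat.of k))) x trivial a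
  obtain ⟨s, rfl⟩ := (Scheme.ΓSpecIso (CommRingCat.of k)).symm.commRingCatIsoToRingEquiv.surjective s
  obtain ⟨t, rfl⟩ := (Scheme.ΓSpecIso (CommRingCat.of k)).symm.commRingCatIsoToRingEquiv.surjective t
  have ht0 : t ≠ 0 := by
    rintro rfl
    rw [map_zero, map_zero] at ht
    exact not_isUnit_zero ht
  refine ⟨s / t, ?_⟩
  rw [← ht.mul_left_inj, hst]
  change _ = (Spec (CommRingCat.of k)).presheaf.germ ⊤ x trivial
      ((Scheme.ΓSpecIso (CommRingCat.of k)).symm.commRingCatIsoToRingEquiv (s / t)) * _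
  rw [← map_mul, ← map_mul, div_mul_cancel₀ _ ht0]

variable [IsAlgClosed k]

theorem exists_base_sub_mem (p : X ⟶ Spec (CommRingCat.of k)) [LocallyOfFiniteType p] (c : X)
    (hc : IsClosed ({c} : Set X)) {V : X.Opens} (hV : c ∈ V) (b : X.presheaf.stalk c) :
    ∃ r : k, b - X.presheaf.germ V c hV (CoordData.baseHom p V r) ∈ maximalIdeal (X.presheaf.stalk c) := by
  obtain ⟨a, ha⟩ := PtCrit.exists_sub_mem p c hc b
  obtain ⟨r, rfl⟩ := stalk_surj (p c) a
  refine ⟨r, ?_⟩
  have h1 : p.stalkMap c ((Spec (CommRingCat.of k)).presheaf.germ ⊤ (p c) trivial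
      ((Scheme.ΓSpecIso (CommRingCat.of k)).inv r)) = X.presheaf.germ V c hV (CoordData.baseHom p V r) := by
    exact (Scheme.Hom.germ_stalkMap_apply p ⊤ c (Opens.mem_top _) _).trans
      (Groth.Agent.Ega1.GlobGenPt.germ_ores (le_top : V ≤ ⊤) c hV _).symm
  rw [← h1]
  exact ha

variable {pX : X ⟶ Spec (CommRingCat.of k)} [LocallyOfFiniteType pX]
  {f : X ⟶ Proj (MvPolynomial.homogeneousSubmodule (Fin (n + 1)) k)}

omit [IsAlgClosed k] in
theorem notMem_basicOpen_iff (i : Fin (n + 1)) (P : X) (hP : f P ∈ Dp (Fin (n + 1)) k i)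
    (s : Γ(Proj (MvPolynomial.homogeneousSubmodule (Fin (n + 1)) k), Dp (Fin (n + 1)) k i)) :
    f P ∉ (Proj (MvPolynomial.homogeneousSubmodule (Fin (n + 1)) k)).basicOpen s ↔
    f.stalkMap P ((Proj (MvPolynomial.homogeneousSubmodule (Fin (n + 1)) k)).presheaf.germ _ (f P) hP s) ∈
      maximalIdeal (X.presheaf.stalk P) := by
  rw [Scheme.mem_basicOpen _ _ (f P) hP, ← mem_nonunits_iff, ← mem_maximalIdeal]
  have := ((local_hom_TFAE (f.stalkMap P).hom).out 0 4 rfl rfl).1 inferInstance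
  rw [← this]
  rfl

/-- The coordinates of a closed point. -/
theorem exists_coords (hf : f ≫ ProjStd.toSpec (Fin (n + 1)) k = pX) (P : X) (hPc : IsClosed ({P} : Set X))
    (i : Fin (n + 1)) (hP : f P ∈ Dp (Fin (n + 1)) k i) : ∃ y : Fin (n + 1) → k, ∀ j,
      f P ∉ (Proj (MvPolynomial.homogeneousSubmodule (Fin (n + 1)) k)).basicOpen
        (dpHom (Fin (n + 1)) k i (dif i y j)) := by
  have hP' : P ∈ f ⁻¹ᵁ Dp (Fin (n + 1)) k i := hP
  choose y hy using fun j => exists_base_sub_mem pX P hPc hP'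
    (f.stalkMap P ((Proj (MvPolynomial.homogeneousSubmodule (Fin (n + 1)) k)).presheaf.germ _ (f P) hP
      (ProjStd.ratio (Fin (n + 1)) k i j)))
  refine ⟨y, fun j => ?_⟩
  rw [notMem_basicOpen_iff i P hP, dpHom_dif, map_sub, map_sub]
  convert hy j using 2
  rw [Scheme.Hom.germ_stalkMap_apply]
  have h2 := appLE_baseHom f (ProjStd.toSpec (Fin (n + 1)) k) (le_refl (f ⁻¹ᵁ Dp (Fin (n + 1)) k i)) (y j)
  rw [Scheme.Hom.appLE_eq_app] at h2
  rw [h2, hf]

theorem eq_of_forall_mem (hf : f ≫ ProjStd.toSpec (Fin (n + 1)) k = pX) (P Q : X)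
    (hPc : IsClosed ({P} : Set X))
    (h : ∀ c, (LL f).presheaf.germ ⊤ P trivial (lsec pX f c) ∈
      (maximalIdeal (X.presheaf.stalk P) • (⊤ : Submodule (X.presheaf.stalk P) ((LL f).presheaf.stalk P))) →
      (LL f).presheaf.germ ⊤ Q trivial (lsec pX f c) ∈
      (maximalIdeal (X.presheaf.stalk Q) • (⊤ : Submodule (X.presheaf.stalk Q) ((LL f).presheaf.stalk Q)))) :
    f P = f Q := by
  obtain ⟨i, hP⟩ := exists_mem f P
  obtain ⟨i', hQ⟩ := exists_mem f Q
  obtain ⟨y, hy⟩ := exists_coords hf P hPc i hP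
  have hdif : ∀ j, f Q ∉ (Proj (MvPolynomial.homogeneousSubmodule (Fin (n + 1)) k)).basicOpen
        (dpHom (Fin (n + 1)) k i' (dif i y j)) := by
    intro j
    rw [dif_eq_lin, ← germ_mem_iff hf i' _ Q hQ]
    apply h
    rw [germ_mem_iff hf i _ P hP, ← dif_eq_lin]
    exact hy j
  have hQi : f Q ∈ Dp (Fin (n + 1)) k i := by
    by_contra hcon
    -- all germs vanish at Q
    have h0 : f.stalkMap Q ((Proj (MvPolynomial.homogeneousSubmodule (Fin (n + 1)) k)).presheaf.germ _ (f Q) hQ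
      (dpHom (Fin (n + 1)) k i' (MvPolynomial.X i))) ∈ maximalIdeal (X.presheaf.stalk Q) := by
      rw [← notMem_basicOpen_iff i' Q hQ]
      intro h'
      rw [dpHom_X] at h'
      exact hcon ((ProjStd.stdData_basicOpen (Fin (n + 1)) k i' i).le.trans inf_le_right h')
    have h1 := (notMem_basicOpen_iff i' Q hQ _).1 (hdif i')
    rw [dif, map_sub, map_mul, map_sub, map_sub, map_mul, map_mul] at h1
    have h2 := Ideal.add_mem _ h1 (Ideal.mul_mem_left _ (f.stalkMap Q
      ((Proj (MvPolynomial.homogeneousSubmodule (Fin (n + 1)) k)).presheaf.germ _ (f Q) hQ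
      (dpHom (Fin (n + 1)) k i' (MvPolynomial.C (y i'))))) h0)
    rw [sub_add_cancel, dpHom_X, show ProjStd.ratio (Fin (n + 1)) k i' i' = 1 from
      (ProjStd.stdData (Fin (n + 1)) k).f_self i', map_one, map_one] at h2
    exact (maximalIdeal.isMaximal _).ne_top ((Ideal.eq_top_iff_one _).2 h2)
  refine eq_of_dif hP hy hQi fun j => ?_
  rw [dif_eq_lin, ← germ_mem_iff hf i _ Q hQi, germ_mem_iff hf i' _ Q hQ, ← dif_eq_lin]
  exact hdif j

omit [IsAlgClosed k] [LocallyOfFiniteType pX] in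
theorem mem_iff_of_eq (hf : f ≫ ProjStd.toSpec (Fin (n + 1)) k = pX) (P Q : X) (h : f P = f Q) (c : Fin (n + 1) → k) :
    (LL f).presheaf.germ ⊤ P trivial (lsec pX f c) ∈
      (maximalIdeal (X.presheaf.stalk P) • (⊤ : Submodule (X.presheaf.stalk P) ((LL f).presheaf.stalk P))) ↔
      (LL f).presheaf.germ ⊤ Q trivial (lsec pX f c) ∈
      (maximalIdeal (X.presheaf.stalk Q) • (⊤ : Submodule (X.presheaf.stalk Q) ((LL f).presheaf.stalk Q))) := by
  obtain ⟨i, hP⟩ := exists_mem f P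
  have hQ : f Q ∈ Dp (Fin (n + 1)) k i := h ▸ hP
  rw [germ_mem_iff hf i c P hP, germ_mem_iff hf i c Q hQ, h]

theorem span_eq_map (hf : f ≫ ProjStd.toSpec (Fin (n + 1)) k = pX) (P : X) (hPc : IsClosed ({P} : Set X))
    (i : Fin (n + 1)) (hP : f P ∈ Dp (Fin (n + 1)) k i) :
    Ideal.span {r : X.presheaf.stalk P | ∃ c : Fin (n + 1) → k, 
      r = f.stalkMap P ((Proj (MvPolynomial.homogeneousSubmodule (Fin (n + 1)) k)).presheaf.germ _ (f P) hP
        (dpHom (Fin (n + 1)) k i (lin c))) ∧ r ∈ maximalIdeal (X.presheaf.stalk P)} =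
    Ideal.map (f.stalkMap P).hom (maximalIdeal 
      ((Proj (MvPolynomial.homogeneousSubmodule (Fin (n + 1)) k)).presheaf.stalk (f P))) := by
  obtain ⟨y, hy⟩ := exists_coords hf P hPc i hP
  apply le_antisymm
  · rw [Ideal.span_le]
    rintro _ ⟨c, rfl, hc⟩
    refine Ideal.mem_map_of_mem _ ?_
    have := ((local_hom_TFAE (f.stalkMap P).hom).out 0 4 rfl rfl).1 inferInstance
    rw [← this]
    exact hc
  · rw [maximalIdeal_eq_span hP hy, Ideal.map_span, Ideal.span_le]
    rintro _ ⟨_, ⟨j, rfl⟩, rfl⟩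
    refine Ideal.subset_span ⟨Pi.single j 1 - Pi.single i (y j), ?_, ?_⟩
    · rw [← dif_eq_lin]
    · exact (notMem_basicOpen_iff i P hP _).1 (hy j)

theorem tangent_iff (hf : f ≫ ProjStd.toSpec (Fin (n + 1)) k = pX) (P : X) (hPc : IsClosed ({P} : Set X)) :
    (maximalIdeal (X.presheaf.stalk P) • (⊤ : Submodule (X.presheaf.stalk P) ((LL f).presheaf.stalk P)) ≤
      Submodule.span (X.presheaf.stalk P) {v | ∃ c : Fin (n + 1) → k,
        v = (LL f).presheaf.germ ⊤ P trivial (lsec pX f c) ∧ 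
        v ∈ (maximalIdeal (X.presheaf.stalk P) • (⊤ : Submodule (X.presheaf.stalk P) ((LL f).presheaf.stalk P)))} ⊔
      (maximalIdeal (X.presheaf.stalk P) ^ 2 • (⊤ : Submodule (X.presheaf.stalk P) ((LL f).presheaf.stalk P)))) ↔
    maximalIdeal (X.presheaf.stalk P) ≤ Ideal.map (f.stalkMap P).hom (maximalIdeal 
      ((Proj (MvPolynomial.homogeneousSubmodule (Fin (n + 1)) k)).presheaf.stalk (f P))) := by
  obtain ⟨i, hP⟩ := exists_mem f P
  have hnoeth : IsLocallyNoetherian X := LocallyOfFiniteType.isLocallyNoetherian pX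
  rw [← span_eq_map hf P hPc i hP]
  have hS : {v | ∃ c : Fin (n + 1) → k,
        v = (LL f).presheaf.germ ⊤ P trivial (lsec pX f c) ∧ 
        v ∈ (maximalIdeal (X.presheaf.stalk P) • (⊤ : Submodule (X.presheaf.stalk P) ((LL f).presheaf.stalk P)))} =
      (stalkEquiv f i P hP).toLinearMap '' {r : X.presheaf.stalk P | ∃ c : Fin (n + 1) → k, 
      r = f.stalkMap P ((Proj (MvPolynomial.homogeneousSubmodule (Fin (n + 1)) k)).presheaf.germ _ (f P) hP
        (dpHom (Fin (n + 1)) k i (lin c))) ∧ r ∈ maximalIdeal (X.presheaf.stalk P)} := by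
    ext v
    rw [smul_top_eq_map (stalkEquiv f i P hP)]
    constructor
    · rintro ⟨c, rfl, hc⟩
      obtain ⟨r, hr, hr'⟩ := hc
      refine ⟨r, ⟨c, ?_, hr⟩, hr'⟩
      apply (stalkEquiv f i P hP).injective
      refine hr'.trans ?_
      exact germ_lsec pX f hf i c P hP
    · rintro ⟨_, ⟨c, rfl, hc⟩, rfl⟩
      exact ⟨c, (germ_lsec pX f hf i c P hP).symm, _, hc, rfl⟩
  rw [hS, smul_top_eq_map (stalkEquiv f i P hP), smul_top_eq_map (stalkEquiv f i P hP),
    Submodule.span_image, ← Submodule.map_sup,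
    Submodule.map_le_map_iff_of_injective (stalkEquiv f i P hP).injective]
  constructor
  · intro h
    refine Submodule.le_of_le_smul_of_le_jacobson_bot (IsNoetherian.noetherian _)
      (maximalIdeal_le_jacobson _) (h.trans ?_)
    rw [pow_two]
    rfl
  · intro h
    exact h.trans le_sup_left

end K657.SepCrit
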