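import Groth.Agent.ProjDeg.K657.PnPt
import Groth.Agent.CohqB.DevSimple
import Groth.Agent.Ega1.GlobGenPt

/-!
# Germs of the pulled back linear forms
-/

set_option autoImplicit false

universe u

namespace K657.SepGerm

open CategoryTheory CategoryTheory.Limits AlgebraicGeometry TopologicalSpace IsLocalRing
open Groth.Agent.VarietyB Groth.Agent.VarietyB.ProjGlue
open Groth.Agent.Ega2.H295.PnUniq Groth.Agent.Ega2.H295.PnCoord
open Groth.Agent.Fdesc.LocGen
open K657.PnPt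

attribute [local instance] MvPolynomial.gradedAlgebra

variable {k : Type u} [Field k] {X : Scheme.{u}} {n : ℕ}

/-- The pull back of `O(1)`. -/
noncomputable abbrev LL (f : X ⟶ Proj (MvPolynomial.homogeneousSubmodule (Fin (n + 1)) k)) : X.Modules :=
  (Scheme.Modules.pullback f).obj (Twist.twist (MvPolynomial.homogeneousSubmodule (Fin (n + 1)) k) 1)

/-- The section `Σ c_j s_j`. -/
noncomputable def lsec (pX : X ⟶ Spec (CommRingCat.of k)) (f : X ⟶ Proj (MvPolynomial.homogeneousSubmodule (Fin (n + 1)) k))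
    (c : Fin (n + 1) → k) : Γ(LL f, ⊤) :=
  ∑ j, ProjUP.toGlobal pX (c j) • tsec f j

theorem lsec_eq (pX : X ⟶ Spec (CommRingCat.of k)) (f : X ⟶ CohB1.ProjSpace n k)
    (c : Fin (n + 1) → k) : lsec pX f c = 
    ∑ i, ProjUP.toGlobal pX (c i) • ProjUP.pullSec f (Twist.twistProjSpace n k 1) (ProjUP.coord n k i) := rfl

variable (pX : X ⟶ Spec (CommRingCat.of k)) (f : X ⟶ Proj (MvPolynomial.homogeneousSubmodule (Fin (n + 1)) k))

theorem res_lsec (hf : f ≫ ProjStd.toSpec (Fin (n + 1)) k = pX) (i : Fin (n + 1)) (c : Fin (n + 1) → k) :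
    res (LL f) (le_top : f ⁻¹ᵁ Dp (Fin (n + 1)) k i ≤ ⊤) (lsec pX f c) =
      f.app (Dp (Fin (n + 1)) k i) (dpHom (Fin (n + 1)) k i (lin c)) •
        res (LL f) (le_top : f ⁻¹ᵁ Dp (Fin (n + 1)) k i ≤ ⊤) (tsec f i) := by
  have h1 : ∀ j, res (LL f) (le_top : f ⁻¹ᵁ Dp (Fin (n + 1)) k i ≤ ⊤) (ProjUP.toGlobal pX (c j) • tsec f j) =
      (f.app (Dp (Fin (n + 1)) k i) (dpHom (Fin (n + 1)) k i (MvPolynomial.C (c j) * MvPolynomial.X j))) •
        res (LL f) (le_top : f ⁻¹ᵁ Dp (Fin (n + 1)) k i ≤ ⊤) (tsec f i) := by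
    intro j
    rw [res_smul, res_tsec f i j le_rfl, map_mul, map_mul, dpHom_X, dpHom_C, mul_smul]
    have h2 := appLE_baseHom f (ProjStd.toSpec (Fin (n + 1)) k)
      (le_refl (f ⁻¹ᵁ Dp (Fin (n + 1)) k i)) (c j)
    rw [Scheme.Hom.appLE_eq_app] at h2 ⊢
    rw [h2, hf]
    rfl
  refine (map_sum ((LL f).presheaf.map (homOfLE le_top).op).hom _ _).trans ?_
  refine (Finset.sum_congr rfl fun j _ => h1 j).trans ?_
  rw [← Finset.sum_smul, ← map_sum, ← map_sum]
  rfl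

theorem germ_lsec (hf : f ≫ ProjStd.toSpec (Fin (n + 1)) k = pX) (i : Fin (n + 1)) (c : Fin (n + 1) → k)
    (P : X) (hP : f P ∈ Dp (Fin (n + 1)) k i) :
    (LL f).presheaf.germ ⊤ P trivial (lsec pX f c) =
      f.stalkMap P ((Proj (MvPolynomial.homogeneousSubmodule (Fin (n + 1)) k)).presheaf.germ _ (f P) hP
        (dpHom (Fin (n + 1)) k i (lin c))) • (LL f).presheaf.germ ⊤ P trivial (tsec f i) := by
  have hP' : P ∈ f ⁻¹ᵁ Dp (Fin (n + 1)) k i := hP
  have h1 := Groth.Agent.Ega1.GlobGenPt.germ_res (LL f) (le_top : f ⁻¹ᵁ Dp (Fin (n + 1)) k i ≤ ⊤) P hP'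
    (lsec pX f c)
  have h2 := Groth.Agent.Ega1.GlobGenPt.germ_res (LL f) (le_top : f ⁻¹ᵁ Dp (Fin (n + 1)) k i ≤ ⊤) P hP'
    (tsec f i)
  have h3 := Groth.Agent.CycB.StalkExact.germ_smul (M := LL f) P hP'
    (f.app (Dp (Fin (n + 1)) k i) (dpHom (Fin (n + 1)) k i (lin c)))
    (res (LL f) (le_top : f ⁻¹ᵁ Dp (Fin (n + 1)) k i ≤ ⊤) (tsec f i))
  rw [h2, ← res_lsec pX f hf] at h3
  rw [← h1, Scheme.Hom.germ_stalkMap_apply]
  exact h3

theorem germ_bijective (i : Fin (n + 1)) (P : X) (hP : f P ∈ Dp (Fin (n + 1)) k i) :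
    Function.Bijective (fun r : X.presheaf.stalk P => r • (LL f).presheaf.germ ⊤ P trivial (tsec f i)) := by
  have hP' : P ∈ f ⁻¹ᵁ Dp (Fin (n + 1)) k i := hP
  have h1 := Groth.Agent.CohqB.DevSimple.germ_bijective_of_isGen (isGen_res_tsec f i
    (le_refl (f ⁻¹ᵁ Dp (Fin (n + 1)) k i))) P hP'
  have h2 := Groth.Agent.Ega1.GlobGenPt.germ_res (LL f) (le_top : f ⁻¹ᵁ Dp (Fin (n + 1)) k i ≤ ⊤) P hP'
    (tsec f i)
  rw [← h2]
  exact h1

/-- The stalk of `L` is free of rank one. -/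
noncomputable def stalkEquiv (i : Fin (n + 1)) (P : X) (hP : f P ∈ Dp (Fin (n + 1)) k i) :
    X.presheaf.stalk P ≃ₗ[X.presheaf.stalk P] (LL f).presheaf.stalk P :=
  LinearEquiv.ofBijective (LinearMap.toSpanSingleton _ _ ((LL f).presheaf.germ ⊤ P trivial (tsec f i)))
    (germ_bijective f i P hP)

theorem stalkEquiv_apply (i : Fin (n + 1)) (P : X) (hP : f P ∈ Dp (Fin (n + 1)) k i) (r : X.presheaf.stalk P) :
    stalkEquiv f i P hP r = r • (LL f).presheaf.germ ⊤ P trivial (tsec f i) := rfl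

theorem smul_top_eq_map {R M : Type*} [CommRing R] [AddCommGroup M] [Module R M] (e : R ≃ₗ[R] M) (J : Ideal R) :
    J • (⊤ : Submodule R M) = Submodule.map e.toLinearMap J := by
  have h1 : (J : Submodule R R) = J • (⊤ : Submodule R R) := by
    rw [smul_eq_mul, Ideal.mul_top]
  conv_rhs => rw [h1]
  rw [Submodule.map_smul'', Submodule.map_top, LinearMap.range_eq_top.2 e.surjective]

variable {pX f}

/-- `Σ c_j s_j` vanishes at `P` iff the linear form vanishes at `f(P)`. -/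
theorem germ_mem_iff (hf : f ≫ ProjStd.toSpec (Fin (n + 1)) k = pX) (i : Fin (n + 1)) (c : Fin (n + 1) → k)
    (P : X) (hP : f P ∈ Dp (Fin (n + 1)) k i) :
    (LL f).presheaf.germ ⊤ P trivial (lsec pX f c) ∈
      (maximalIdeal (X.presheaf.stalk P) • (⊤ : Submodule (X.presheaf.stalk P) ((LL f).presheaf.stalk P))) ↔
    f P ∉ (Proj (MvPolynomial.homogeneousSubmodule (Fin (n + 1)) k)).basicOpen
      (dpHom (Fin (n + 1)) k i (lin c)) := by
  rw [smul_top_eq_map (stalkEquiv f i P hP), germ_lsec pX f hf i c P hP, ← stalkEquiv_apply f i P hP]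
  rw [Scheme.mem_basicOpen _ _ (f P) hP, ← mem_nonunits_iff, ← mem_maximalIdeal]
  constructor
  · rintro ⟨r, hr, hr'⟩
    have := (stalkEquiv f i P hP).injective hr'
    subst this
    exact ((local_hom_TFAE (f.stalkMap P).hom).out 0 4 rfl rfl).1 inferInstance ▸ hr
  · intro h
    exact ⟨_, ((local_hom_TFAE (f.stalkMap P).hom).out 0 2 rfl rfl).1 inferInstance (Ideal.mem_map_of_mem _ h), rfl⟩

end K657.SepGerm
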